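import Mathlib

/-!
Arithmetic in a finite group whose element orders fall into coprime classes.
-/

set_option autoImplicit false
set_option linter.style.haveILetI false

namespace CfsgLib.SpecOrderPSL2

open Subgroup

variable {G : Type*} [Group G]

/-- Every element order either divides `M` or is coprime to `M`. -/
def Iso (M : ℕ) (G : Type*) [Group G] : Prop :=
  ∀ g : G, orderOf g ∣ M ∨ (orderOf g).Coprime M

/-- An element commuting with a non-identity element of the class of `M` is in that class. -/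
theorem Iso.of_commute {M : ℕ} (h : Iso M G) {z c : G} (hz : orderOf z ∣ M) (hz1 : z ≠ 1)
    (hc : Commute c z) : orderOf c ∣ M := by
  rcases h c with h1 | h1
  · exact h1
  have hco : (orderOf c).Coprime (orderOf z) := h1.coprime_dvd_right hz
  have hm := hc.orderOf_mul_eq_mul_orderOf_of_coprime hco
  rcases h (c * z) with h2 | h2
  · rw [hm] at h2
    exact (dvd_mul_right _ _).trans h2
  · rw [hm] at h2
    exact absurd (orderOf_eq_one_iff.mp
      (Nat.eq_one_of_dvd_coprimes h2 (dvd_mul_left _ _) hz)) hz1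

variable [Finite G]

/-- A subgroup all whose element orders divide `M` has order dividing the matching factor of `|G|`. -/
theorem card_dvd_of_orders {H : Subgroup G} {M N R : ℕ} (hG : Nat.card G = N * R) (hMR : M.Coprime R)
    (h : ∀ x ∈ H, orderOf x ∣ M) : Nat.card H ∣ N := by
  have hco : (Nat.card H).Coprime R := by
    refine Nat.coprime_of_dvd fun r hr hrH hrR => ?_
    haveI := Fact.mk hr
    obtain ⟨x, hx⟩ := exists_prime_orderOf_dvd_card' (G := H) r hrH
    have h1 : r ∣ M := hx ▸ (Subgroup.orderOf_coe x ▸ h _ x.2)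
    exact hr.one_lt.ne' (Nat.eq_one_of_dvd_coprimes hMR h1 hrR)
  exact hco.dvd_of_dvd_mul_right (hG ▸ Subgroup.card_subgroup_dvd_card H)

theorem card_centralizer_dvd {M N R : ℕ} (hI : Iso M G) (hG : Nat.card G = N * R) (hMR : M.Coprime R)
    {z : G} (hz : orderOf z ∣ M) (hz1 : z ≠ 1) : Nat.card (centralizer ({z} : Set G)) ∣ N :=
  card_dvd_of_orders hG hMR fun _ hx => hI.of_commute hz hz1 (mem_centralizer_singleton_iff.mp hx)

/-- Semiregular conjugation of `E` on the non-identity elements of `Z`. -/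
theorem card_dvd_card_sub_one (E Z : Subgroup G) (hn : E ≤ normalizer (Z : Set G))
    (hf : ∀ e ∈ E, e ≠ 1 → ∀ z ∈ Z, Commute e z → z = 1) : Nat.card E ∣ Nat.card Z - 1 := by
  classical
  let S := {z : G // z ∈ Z ∧ z ≠ 1}
  letI : MulAction E S :=
    { smul := fun e s => ⟨(e : G) * s.1 * (e : G)⁻¹, (mem_normalizer_iff.mp (hn e.2) _).mp s.2.1,
        fun h => s.2.2 (conj_eq_one_iff.mp h)⟩
      one_smul := fun s => Subtype.ext (by show ((1 : E) : G) * s.1 * ((1 : E) : G)⁻¹ = s.1; simp)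
      mul_smul := fun e f s => Subtype.ext (by
        show ((e * f : E) : G) * s.1 * ((e * f : E) : G)⁻¹ = (e : G) * ((f : G) * s.1 * (f : G)⁻¹) * (e : G)⁻¹
        rw [Subgroup.coe_mul]; group) }
  have hst : ∀ s : S, MulAction.stabilizer E s = ⊥ := fun s => by
    rw [eq_bot_iff_forall]
    intro e he
    have he' : (e : G) * s.1 * (e : G)⁻¹ = s.1 := congrArg Subtype.val he
    by_contra he1
    exact s.2.2 (hf _ e.2 (fun h => he1 (Subtype.ext h)) _ s.2.1 (mul_inv_eq_iff_eq_mul.mp he'))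
  have hS : Nat.card S = Nat.card Z - 1 := by
    have : Fintype Z := Fintype.ofFinite Z
    rw [Nat.card_congr (⟨fun s => ⟨⟨s.1, s.2.1⟩, fun h => s.2.2 (congrArg Subtype.val h)⟩,
        fun n => ⟨n.1.1, n.1.2, fun h => n.2 (Subtype.ext h)⟩, fun _ => rfl, fun _ => rfl⟩ :
        S ≃ {n : Z // n ≠ 1}), Nat.card_eq_fintype_card, Nat.card_eq_fintype_card,
      Fintype.card_subtype_compl, Fintype.card_subtype_eq]
  have : Fintype (Quotient (MulAction.orbitRel E S)) := Fintype.ofFinite _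
  rw [← hS, Nat.card_congr (MulAction.selfEquivSigmaOrbits E S), Nat.card_sigma]
  refine Finset.dvd_sum fun o _ => dvd_of_eq ?_
  have h1 := MulAction.index_stabilizer E (Quotient.out o)
  rw [hst, Subgroup.index_bot] at h1
  rw [h1, Nat.card_coe_set_eq]

/-- The index of the stabiliser of `z` in a group normalising `⟨z⟩`, `z` of prime order. -/
theorem exists_card_eq_mul {ℓ : ℕ} (hℓ : ℓ.Prime) {z : G} (hz : orderOf z = ℓ) (N : Subgroup G)
    (hN : ∀ g ∈ N, g * z * g⁻¹ ∈ zpowers z) :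
    ∃ e : ℕ, 0 < e ∧ e < ℓ ∧ Nat.card N = e * Nat.card (N ⊓ centralizer ({z} : Set G) : Subgroup G) := by
  classical
  let T := {x : G // x ∈ zpowers z ∧ orderOf x = ℓ}
  have hconj : ∀ g x : G, orderOf (g * x * g⁻¹) = orderOf x := fun g x =>
    MulEquiv.orderOf_eq (MulAut.conj g) x
  letI : MulAction N T :=
    { smul := fun g s => ⟨(g : G) * s.1 * (g : G)⁻¹, by
          refine ⟨?_, by rw [hconj]; exact s.2.2⟩
          obtain ⟨k, hk⟩ := s.2.1
          rw [← hk, ← MulAut.conj_apply, map_zpow, MulAut.conj_apply]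
          exact zpow_mem (hN _ g.2) k⟩
      one_smul := fun s => Subtype.ext (by show ((1 : N) : G) * s.1 * ((1 : N) : G)⁻¹ = s.1; simp)
      mul_smul := fun e f s => Subtype.ext (by
        show ((e * f : N) : G) * s.1 * ((e * f : N) : G)⁻¹ = (e : G) * ((f : G) * s.1 * (f : G)⁻¹) * (e : G)⁻¹
        rw [Subgroup.coe_mul]; group) }
  let s₀ : T := ⟨z, mem_zpowers z, hz⟩
  have hst : MulAction.stabilizer N s₀ = (N ⊓ centralizer ({z} : Set G)).subgroupOf N := by
    ext g
    rw [MulAction.mem_stabilizer_iff, Subgroup.mem_subgroupOf, Subgroup.mem_inf,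
      mem_centralizer_singleton_iff, ← mul_inv_eq_iff_eq_mul]
    exact ⟨fun h => ⟨g.2, congrArg Subtype.val h⟩, fun h => Subtype.ext h.2⟩
  refine ⟨((N ⊓ centralizer ({z} : Set G)).subgroupOf N).index, Nat.pos_of_ne_zero Subgroup.index_ne_zero_of_finite,
    ?_, ?_⟩
  · rw [← hst, MulAction.index_stabilizer]
    have h1 : Nat.card T < Nat.card (zpowers z) := by
      have : Fintype T := Fintype.ofFinite T
      have : Fintype (zpowers z) := Fintype.ofFinite _
      rw [Nat.card_eq_fintype_card, Nat.card_eq_fintype_card]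
      refine Fintype.card_lt_of_injective_of_notMem (fun s : T => (⟨s.1, s.2.1⟩ : zpowers z))
        (fun x y h => Subtype.ext (congrArg (fun u : zpowers z => (u : G)) h)) (b := 1) ?_
      rintro ⟨x, hx⟩
      have : orderOf x.1 = 1 := by rw [show x.1 = 1 from congrArg Subtype.val hx, orderOf_one]
      rw [x.2.2] at this
      exact hℓ.one_lt.ne' this
    rw [Nat.card_zpowers, hz] at h1
    exact lt_of_le_of_lt (Finite.card_subtype_le _ |>.trans_eq rfl) h1
  · rw [← (Subgroup.subgroupOfEquivOfLe (H := N ⊓ centralizer ({z} : Set G)) inf_le_left).toEquiv |> Nat.card_congr]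
    exact (Subgroup.index_mul_card _).symm

/-- In a finite cyclic group an element killed by the order of `z` is a power of `z`. -/
theorem mem_zpowers_of_cyclic {L : Subgroup G} [IsCyclic L] {z w : G} (hz : z ∈ L) (hw : w ∈ L)
    (h : w ^ orderOf z = 1) : w ∈ zpowers z := by
  classical
  have : Fintype L := Fintype.ofFinite L
  set n := orderOf z
  have hcz : Nat.card (zpowers (⟨z, hz⟩ : L)) = n := by rw [Nat.card_zpowers, Subgroup.orderOf_mk]
  have h1 : (zpowers (⟨z, hz⟩ : L) : Set L).toFinset = Finset.univ.filter (fun x : L => x ^ n = 1) := by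
    refine Finset.eq_of_subset_of_card_le (fun x hx => ?_) ?_
    · obtain ⟨i, rfl⟩ := Set.mem_toFinset.mp hx
      refine Finset.mem_filter.mpr ⟨Finset.mem_univ _, Subtype.ext ?_⟩
      show (z ^ i) ^ n = 1
      rw [← zpow_natCast, ← zpow_mul, mul_comm, zpow_mul, zpow_natCast, pow_orderOf_eq_one, one_zpow]
    · refine (IsCyclic.card_pow_eq_one_le (orderOf_pos z)).trans ?_
      rw [Set.toFinset_card, ← Nat.card_eq_fintype_card]
      exact hcz.ge
  have h2 : (⟨w, hw⟩ : L) ∈ (zpowers (⟨z, hz⟩ : L) : Set L).toFinset := by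
    rw [h1]
    exact Finset.mem_filter.mpr ⟨Finset.mem_univ _, Subtype.ext h⟩
  obtain ⟨i, hi⟩ := Set.mem_toFinset.mp h2
  exact ⟨i, congrArg Subtype.val hi⟩

/-- An element centralising `z` of prime order in a cyclic group `L ∋ z` of prime power order and acting on
`L` as an involution centralises `L`. -/
theorem commute_of_commute_omega {ℓ : ℕ} (hℓ : ℓ.Prime) (hℓ2 : ℓ ≠ 2) {z g y : G} (L : Subgroup G) [IsCyclic L]
    (hL : IsPGroup ℓ L) (hz : orderOf z = ℓ) (hzL : z ∈ L) (hgz : Commute g z) (hyL : y ∈ L)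
    (hgy : g * y * g⁻¹ ∈ L) (hg2 : g * (g * y * g⁻¹) * g⁻¹ = y) : Commute g y := by
  haveI := Fact.mk hℓ
  set m := g * y * g⁻¹ * y⁻¹ with hm
  have hmL : m ∈ L := mul_mem hgy (inv_mem hyL)
  have hyg : (g * y * g⁻¹) * y = y * (g * y * g⁻¹) := by
    haveI : IsMulCommutative L := inferInstance
    exact congrArg Subtype.val (IsMulCommutative.is_comm.comm (⟨_, hgy⟩ : L) ⟨y, hyL⟩)
  have hinv : g * m * g⁻¹ = m⁻¹ := by
    calc g * m * g⁻¹ = g * (g * y * g⁻¹) * g⁻¹ * (g * y * g⁻¹)⁻¹ := by rw [hm]; group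
      _ = y * (g * y * g⁻¹)⁻¹ := by rw [hg2]
      _ = m⁻¹ := by rw [hm]; group
  by_contra hne
  have hm1 : m ≠ 1 := fun e => hne (mul_inv_eq_iff_eq_mul.mp (by rwa [hm, mul_inv_eq_one] at e))
  obtain ⟨k, hk⟩ := IsPGroup.iff_orderOf.mp hL ⟨m, hmL⟩
  rw [Subgroup.orderOf_mk] at hk
  have hk0 : k ≠ 0 := fun e => hm1 (orderOf_eq_one_iff.mp (by rw [hk, e, pow_zero]))
  set j := ℓ ^ (k - 1)
  have hord : orderOf (m ^ j) = ℓ := by
    rw [orderOf_pow' m (pow_ne_zero _ hℓ.ne_zero), hk,
      Nat.gcd_eq_right (Nat.pow_dvd_pow ℓ (Nat.sub_le k 1)),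
      Nat.pow_div (Nat.sub_le k 1) hℓ.pos, show k - (k - 1) = 1 by omega, pow_one]
  have he : m ^ j ∈ zpowers z := mem_zpowers_of_cyclic hzL (pow_mem hmL j) (by
    rw [hz, ← hord, pow_orderOf_eq_one])
  have hzi : g * (m ^ j) * g⁻¹ = m ^ j := by
    obtain ⟨i, hi⟩ := he
    rw [← hi]
    exact mul_inv_eq_iff_eq_mul.mpr (hgz.zpow_right i).eq
  have hzinv : g * (m ^ j) * g⁻¹ = (m ^ j)⁻¹ := by
    rw [← MulAut.conj_apply, map_pow, MulAut.conj_apply, hinv, inv_pow]
  have h2 : (m ^ j) ^ 2 = 1 := by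
    rw [pow_two]; nth_rewrite 2 [← inv_inv (m ^ j)]
    rw [← hzinv, hzi, mul_inv_cancel]
  exact hℓ2 (((Nat.prime_dvd_prime_iff_eq hℓ Nat.prime_two).mp (hord ▸ orderOf_dvd_of_pow_eq_one h2)))

end CfsgLib.SpecOrderPSL2
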