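import Cfsg.Agent.Lib.SpecOrderPSL2.Simple
import Cfsg.Agent.Lib.Frobenius.UniqueSubgroup
import Cfsg.Agent.Lib.BSW.Zassenhaus
import Cfsg.Agent.S0201
import Cfsg.Agent.S0111
import Cfsg.Agent.S3225
import Cfsg.Agent.S3282

/-!
A group with the order and the element orders of `PSL(2,q)`, `q` odd, is in the Brauer–Suzuki–Wall configuration.
-/

set_option autoImplicit false
set_option linter.style.haveILetI false

namespace CfsgLib.SpecOrderPSL2.Dat

open Subgroup
open CfsgLib.Involutions (mul_self_eq_one_of_orderOf inv_eq_self_of_orderOf orderOf_eq_two_iff' orderOf_conj)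

universe u

variable {G : Type u} [Group G] [Finite G] (D : Dat G)

include D

/-- An element of order `a`. -/
noncomputable def xa : G := D.exA.choose

omit [Finite G] in
theorem ord_xa : orderOf D.xa = D.a := D.exA.choose_spec

/-- The cyclic subgroup of order `a`. -/
noncomputable abbrev A : Subgroup G := zpowers D.xa

omit [Finite G] in
theorem card_A : Nat.card D.A = D.a := by rw [Nat.card_zpowers, D.ord_xa]

omit [Finite G] in
theorem ord_of_mem_A {z : G} (hz : z ∈ D.A) : orderOf z ∣ D.a :=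
  D.ord_xa ▸ orderOf_dvd_of_mem_zpowers hz

omit [Finite G] in
theorem comm_A {x y : G} (hx : x ∈ D.A) (hy : y ∈ D.A) : x * y = y * x :=
  congrArg (fun u : D.A => (u : G)) (IsMulCommutative.is_comm.comm (⟨x, hx⟩ : D.A) ⟨y, hy⟩)

/-- The involution of `A`. -/
noncomputable def t : G := D.xa ^ (D.a / 2)

theorem t_mem : D.t ∈ D.A := pow_mem (mem_zpowers _) _

theorem ord_t : orderOf D.t = 2 := by
  have h := D.ha2
  have hd : D.a / 2 ∣ D.a := Nat.div_dvd_of_dvd D.ha.two_dvd
  rw [t, orderOf_pow' _ (by omega : D.a / 2 ≠ 0), D.ord_xa, Nat.gcd_eq_right hd,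
    Nat.div_div_self D.ha.two_dvd (by omega)]

theorem eq_t_of_sq {x : G} (hx : x ∈ D.A) (h2 : x * x = 1) (h1 : x ≠ 1) : x = D.t := by
  obtain ⟨i, hi⟩ := mem_zpowers_of_cyclic D.t_mem hx (by rw [D.ord_t, pow_two, h2])
  rcases Int.even_or_odd i with ⟨k, hk⟩ | ⟨k, hk⟩ <;>
    simp only [hk, ← two_mul, zpow_add, zpow_mul, zpow_one, zpow_two, mul_self_eq_one_of_orderOf D.ord_t, one_zpow,
      one_mul] at hi
  · exact absurd hi.symm h1
  · exact hi.symm

theorem A_le_cent {z : G} (hz : z ∈ D.A) : D.A ≤ centralizer ({z} : Set G) :=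
  fun _ hx => mem_centralizer_singleton_iff.mpr (D.comm_A hx hz)

/-- Something outside `A` in the centraliser of an element of `A` forces order `2a`. -/
theorem card_cent_eq {z u : G} (hz : z ∈ D.A) (hz1 : z ≠ 1) (hu : u ∈ centralizer ({z} : Set G)) (huA : u ∉ D.A) :
    Nat.card (centralizer ({z} : Set G)) = 2 * D.a := by
  have hd := D.cent_a (D.ord_of_mem_A hz) hz1
  obtain ⟨k, hk⟩ := Subgroup.card_dvd_of_le (D.A_le_cent hz)
  rw [D.card_A] at hk
  rw [hk, mul_comm 2 D.a] at hd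
  have hk2 : k ∣ 2 := Nat.dvd_of_mul_dvd_mul_left (by have := D.ha2; omega) hd
  rcases (Nat.dvd_prime Nat.prime_two).mp hk2 with h | h
  · exact absurd ((Subgroup.eq_of_le_of_card_ge (D.A_le_cent hz) (by rw [hk, h, mul_one, D.card_A])).symm ▸ hu) huA
  · rw [hk, h, mul_comm]

/-- The Sylow 2-subgroups have no element of maximal order and are not quaternion: an involution outside `A`
centralises `t`, and there is one class of involutions. -/
theorem involutions :
    ∃ s : G, orderOf s = 2 ∧ s ∈ centralizer ({D.t} : Set G) ∧ s ∉ D.A ∧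
      ∀ x y : G, orderOf x = 2 → orderOf y = 2 → IsConj x y := by
  classical
  haveI := D.isSimpleGroup
  haveI : Fact (Nat.Prime 2) := ⟨Nat.prime_two⟩
  have ha0 : D.a ≠ 0 := by have := D.ha2; omega
  set v := D.a.factorization 2
  have hqb : ¬ 2 ∣ (D.a + D.b) * D.b := fun h => by
    rcases Nat.prime_two.dvd_mul.mp h with h' | h'
    · exact Nat.not_odd_iff_even.mpr (even_iff_two_dvd.mpr h') (D.ha.add_odd D.hb)
    · exact Nat.not_odd_iff_even.mpr (even_iff_two_dvd.mpr h') D.hb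
  have hfac : (Nat.card G).factorization 2 = v + 1 := by
    rw [D.hcard, show 2 * (D.a + D.b) * D.a * D.b = 2 * D.a * ((D.a + D.b) * D.b) by ring,
      Nat.factorization_mul (by omega) (fun h => hqb (by rw [h]; exact dvd_zero 2)), Finsupp.add_apply,
      Nat.factorization_eq_zero_of_not_dvd hqb, Nat.factorization_mul two_ne_zero ha0, Finsupp.add_apply,
      Nat.prime_two.factorization_self]
    omega
  set c := D.a / 2 ^ v with hc
  have hdvd : 2 ^ v ∣ D.a := Nat.ordProj_dvd _ _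
  have hv1 : 1 ≤ v := (Nat.prime_two.dvd_iff_one_le_factorization ha0).mp D.ha.two_dvd
  set M := zpowers (D.xa ^ c) with hM
  have hMA : M ≤ D.A := zpowers_le.mpr (pow_mem (mem_zpowers _) _)
  have hMcard : Nat.card M = 2 ^ v := by
    rw [Nat.card_zpowers, orderOf_pow' _ (Nat.div_pos (Nat.le_of_dvd (by omega) hdvd) (pow_pos two_pos _)).ne',
      D.ord_xa, Nat.gcd_eq_right (Nat.div_dvd_of_dvd hdvd), Nat.div_div_self hdvd ha0]
  obtain ⟨S, hMS⟩ := (IsPGroup.of_card hMcard).exists_le_sylow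
  have hScard : Nat.card S = 2 ^ (v + 1) := by rw [S.card_eq_multiplicity, hfac]
  have hrel : M.relIndex (S : Subgroup G) = 2 := by
    have h := (M.subgroupOf (S : Subgroup G)).index_mul_card
    rw [Nat.card_congr (Subgroup.subgroupOfEquivOfLe hMS).toEquiv, hMcard, hScard, pow_succ'] at h
    exact Nat.eq_of_mul_eq_mul_right (pow_pos two_pos _) h
  have htM : D.t ∈ M := by
    obtain ⟨x, hx⟩ := exists_prime_orderOf_dvd_card' (G := M) 2 (by rw [hMcard]; exact dvd_pow_self 2 (by omega))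
    rw [← Subgroup.orderOf_coe] at hx
    obtain ⟨h2, h1⟩ := orderOf_eq_two_iff'.mp hx
    rw [← D.eq_t_of_sq (hMA x.2) h2 h1]
    exact x.2
  -- an involution of `S` outside `M`
  obtain ⟨s, hsS, hs, hsM⟩ : ∃ s ∈ (S : Subgroup G), orderOf s = 2 ∧ s ∉ M := by
    by_contra hno
    push Not at hno
    have hu : CfsgLib.Frob.UniqSub 2 ↥(S : Subgroup G) := by
      have key : ∀ H : Subgroup ↥(S : Subgroup G), Nat.card H = 2 → H = zpowers (⟨D.t, hMS htM⟩ : ↥(S : Subgroup G)) := by
        intro H hH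
        obtain ⟨y, hy⟩ := exists_prime_orderOf_dvd_card' (G := H) 2 (by rw [hH])
        have hy' : orderOf (((y : ↥(S : Subgroup G))) : G) = 2 := by
          rw [Subgroup.orderOf_coe, Subgroup.orderOf_coe, hy]
        obtain ⟨h2, h1⟩ := orderOf_eq_two_iff'.mp hy'
        have he := D.eq_t_of_sq (hMA (hno _ y.1.2 hy')) h2 h1
        refine (Subgroup.eq_of_le_of_card_ge (zpowers_le.mpr ?_) ?_).symm
        · rw [show (⟨D.t, hMS htM⟩ : ↥(S : Subgroup G)) = y from Subtype.ext he.symm]; exact y.2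
        · rw [hH, Nat.card_zpowers, Subgroup.orderOf_mk, D.ord_t]
      exact fun H K hH hK => (key H hH).trans (key K hK).symm
    rcases CfsgLib.Frob.cyclic_or_quaternion_two S.2 hu with hcyc | ⟨n, ⟨e⟩⟩
    · obtain ⟨g, hg⟩ := hcyc.exists_ofOrder_eq_natCard
      rw [← Subgroup.orderOf_coe, hScard] at hg
      have h2 : 2 ∣ orderOf (g : G) := hg ▸ dvd_pow_self 2 (by omega)
      rcases D.isoA (g : G) with h | h
      · rw [hg] at h
        have h1 := (Nat.prime_two.pow_dvd_iff_le_factorization ha0).mp h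
        omega
      · exact absurd (Nat.eq_one_of_dvd_coprimes h h2 D.ha.two_dvd) (by norm_num)
    · haveI : NeZero (2 ^ n) := ⟨pow_ne_zero _ two_ne_zero⟩
      have hS4 : 4 * 2 ^ n = 2 ^ (v + 1) := by
        rw [← hScard, Nat.card_congr e.toEquiv, Nat.card_eq_fintype_card, QuaternionGroup.card]
      rcases n with - | m
      · -- cyclic of order four
        obtain ⟨g, hg⟩ : ∃ g : ↥(S : Subgroup G), orderOf g = 4 :=
          ⟨e.symm (QuaternionGroup.xa 0), by rw [MulEquiv.orderOf_eq, QuaternionGroup.orderOf_xa]⟩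
        rw [← Subgroup.orderOf_coe] at hg
        rcases D.isoA (g : G) with h | h
        · rw [hg, show 4 = 2 ^ 2 by norm_num] at h
          have h1 := (Nat.prime_two.pow_dvd_iff_le_factorization ha0).mp h
          have h2 : 2 ^ (v + 1) = 2 ^ 2 := by rw [← hS4]; norm_num
          have := Nat.pow_right_injective le_rfl h2
          omega
        · exact absurd (Nat.eq_one_of_dvd_coprimes h (by rw [hg]; norm_num : 2 ∣ orderOf (g : G)) D.ha.two_dvd)
            (by norm_num)
      · have hne : ¬ Odd (Nat.card G) := by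
          rw [D.hcard, Nat.not_odd_iff_even, mul_assoc, mul_assoc]; exact even_two_mul _
        have h2 := Cfsg.Agent.S0201.result S m e fun N hN ho => (hN.eq_bot_or_eq_top).resolve_right
          fun h => hne (by rwa [h, Subgroup.card_top] at ho)
        rcases (inferInstance : (center G).Normal).eq_bot_or_eq_top with h | h
        · rw [h, Subgroup.card_bot] at h2; norm_num at h2
        · rw [h, Subgroup.card_top, D.hcard] at h2
          have := Nat.mul_le_mul (Nat.mul_le_mul (Nat.mul_le_mul (le_refl 2)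
            (Nat.add_le_add D.ha2 D.hb3)) D.ha2) D.hb3
          omega
  have hsA : s ∉ D.A := fun h => hsM (by
    obtain ⟨h2, h1⟩ := orderOf_eq_two_iff'.mp hs
    rw [D.eq_t_of_sq h h2 h1]; exact htM)
  have htS : D.t ∈ (S : Subgroup G) := hMS htM
  have hst : s ∈ centralizer ({D.t} : Set G) := by
    haveI : (M.subgroupOf (S : Subgroup G)).Normal := Subgroup.normal_of_index_eq_two hrel
    have hm : s * D.t * s⁻¹ ∈ M :=
      (inferInstance : (M.subgroupOf (S : Subgroup G)).Normal).conj_mem ⟨_, htS⟩ htM ⟨s, hsS⟩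
    have ht2 := mul_self_eq_one_of_orderOf D.ord_t
    refine mem_centralizer_singleton_iff.mpr (mul_inv_eq_iff_eq_mul.mp (D.eq_t_of_sq (hMA hm) ?_ ?_))
    · rw [show s * D.t * s⁻¹ * (s * D.t * s⁻¹) = s * (D.t * D.t) * s⁻¹ by group, ht2, mul_one, mul_inv_cancel]
    · rw [Ne, conj_eq_one_iff]; exact (orderOf_eq_two_iff'.mp D.ord_t).2
  refine ⟨s, hs, hst, hsA, ?_⟩
  have key : ∀ x : G, orderOf x = 2 → IsConj x D.t := by
    intro x hx
    obtain ⟨Q, hQ⟩ := (IsPGroup.of_card (n := 1) (by rw [Nat.card_zpowers, hx, pow_one]) :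
      IsPGroup 2 (zpowers x)).exists_le_sylow
    obtain ⟨g, hg⟩ := MulAction.exists_smul_eq G Q S
    have hxS : g * x * g⁻¹ ∈ (S : Subgroup G) := by rw [← hg]; exact ⟨x, hQ (mem_zpowers _), rfl⟩
    have hx' : orderOf (g * x * g⁻¹) = 2 := by rw [orderOf_conj, hx]
    refine (isConj_iff.mpr ⟨g, rfl⟩ : IsConj x (g * x * g⁻¹)).trans ?_
    by_cases hxM : g * x * g⁻¹ ∈ M
    · obtain ⟨h2, h1⟩ := orderOf_eq_two_iff'.mp hx'
      rw [D.eq_t_of_sq (hMA hxM) h2 h1]
    · rcases Cfsg.Agent.S0111.result S M hMS hrel _ hx' hxS hxM with ⟨N, hN, hi, -⟩ | ⟨k, hk⟩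
      · rcases hN.eq_bot_or_eq_top with h | h
        · rw [h, Subgroup.index_bot, D.hcard] at hi
          have := Nat.mul_le_mul (Nat.mul_le_mul (Nat.mul_le_mul (le_refl 2)
            (Nat.add_le_add D.ha2 D.hb3)) D.ha2) D.hb3
          omega
        · rw [h, Subgroup.index_top] at hi; norm_num at hi
      · have hk' : orderOf (k * (g * x * g⁻¹) * k⁻¹) = 2 := by rw [orderOf_conj, hx']
        obtain ⟨h2, h1⟩ := orderOf_eq_two_iff'.mp hk'
        exact isConj_iff.mpr ⟨k, D.eq_t_of_sq (hMA hk) h2 h1⟩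
  exact fun x y hx hy => (key x hx).trans (key y hy).symm

variable {s : G} (hs : orderOf s = 2) (hst : s ∈ centralizer ({D.t} : Set G)) (hsA : s ∉ D.A)

include hst hsA

theorem card_H : Nat.card (centralizer ({D.t} : Set G)) = 2 * D.a :=
  D.card_cent_eq D.t_mem (orderOf_eq_two_iff'.mp D.ord_t).2 hst hsA

theorem index_A : (D.A.subgroupOf (centralizer ({D.t} : Set G))).index = 2 := by
  have h := (D.A.subgroupOf (centralizer ({D.t} : Set G))).index_mul_card
  rw [Nat.card_congr (Subgroup.subgroupOfEquivOfLe (D.A_le_cent D.t_mem)).toEquiv, D.card_A,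
    D.card_H hst hsA] at h
  exact Nat.eq_of_mul_eq_mul_right (by have := D.ha2; omega) h

theorem conj_mem_A {g x : G} (hg : g ∈ centralizer ({D.t} : Set G)) (hx : x ∈ D.A) : g * x * g⁻¹ ∈ D.A :=
  (Subgroup.normal_of_index_eq_two (D.index_A hst hsA)).conj_mem ⟨x, D.A_le_cent D.t_mem hx⟩ hx ⟨g, hg⟩

theorem mul_s_mem {g : G} (hg : g ∈ centralizer ({D.t} : Set G)) (hgA : g ∉ D.A) : g * s ∈ D.A :=
  (Subgroup.mul_mem_iff_of_index_two (D.index_A hst hsA) (a := ⟨g, hg⟩) (b := ⟨s, hst⟩)).mpr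
    ⟨fun h => absurd h hgA, fun h => absurd h hsA⟩

theorem sq_mem_A {g : G} (hg : g ∈ centralizer ({D.t} : Set G)) : g * g ∈ D.A :=
  (Subgroup.mul_mem_iff_of_index_two (D.index_A hst hsA) (a := ⟨g, hg⟩) (b := ⟨g, hg⟩)).mpr Iff.rfl

theorem sup_eq : D.A ⊔ zpowers s = centralizer ({D.t} : Set G) := by
  refine le_antisymm (sup_le (D.A_le_cent D.t_mem) (zpowers_le.mpr hst)) fun g hg => ?_
  by_cases hgA : g ∈ D.A
  · exact mem_sup_left hgA
  · rw [← mul_inv_cancel_right g s]
    exact mul_mem (mem_sup_left (D.mul_s_mem hst hsA hg hgA)) (mem_sup_right (inv_mem (mem_zpowers s)))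

include hs

/-- The involution `s` centralises no element of odd prime order of `A`. -/
theorem no_odd {z : G} (hz : z ∈ D.A) {ℓ : ℕ} (hℓ : ℓ.Prime) (hℓ2 : ℓ ≠ 2) (hord : orderOf z = ℓ) :
    ¬ Commute s z := by
  classical
  intro hsz
  haveI := D.isSimpleGroup
  haveI := Fact.mk hℓ
  have ha2 := D.ha2
  have hz1 : z ≠ 1 := fun e => by rw [e, orderOf_one] at hord; exact hℓ.one_lt.ne hord
  have hla : ℓ ∣ D.a := hord ▸ D.ord_of_mem_A hz
  have hnd : ¬ ℓ ∣ 2 * ((D.a + D.b) * D.b) := fun h => by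
    rcases hℓ.dvd_mul.mp h with h' | h'
    · exact hℓ2 ((Nat.prime_dvd_prime_iff_eq hℓ Nat.prime_two).mp h')
    · exact hℓ.one_lt.ne' (Nat.eq_one_of_dvd_coprimes (D.cop_aq.mul_right D.cop_ab) hla h')
  obtain ⟨y, hy, P, hP⟩ := exists_sylow_zpowers (r := ℓ) (x := D.xa) (R := 2 * ((D.a + D.b) * D.b))
    (by rw [D.hcard, D.ord_xa]; ring) hnd
  have hPA : (P : Subgroup G) ≤ D.A := hP ▸ zpowers_le.mpr hy
  have hzP : z ∈ (P : Subgroup G) := by
    have h1 : ℓ ∣ Nat.card (P : Subgroup G) := P.dvd_card_of_dvd_card (by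
      rw [D.hcard, show 2 * (D.a + D.b) * D.a * D.b = D.a * (2 * ((D.a + D.b) * D.b)) by ring]
      exact hla.mul_right _)
    obtain ⟨u, hu⟩ := exists_prime_orderOf_dvd_card' (G := (P : Subgroup G)) ℓ h1
    rw [← Subgroup.orderOf_coe] at hu
    obtain ⟨i, rfl⟩ := mem_zpowers_of_cyclic (hPA u.2) hz (by rw [hu, ← hord, pow_orderOf_eq_one])
    exact zpow_mem u.2 i
  haveI : IsCyclic (P : Subgroup G) := Subgroup.isCyclic_of_le hPA
  -- `C(z) = C(t)`
  have hCz : centralizer ({z} : Set G) = (centralizer ({D.t} : Set G)) := by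
    have hle : (centralizer ({D.t} : Set G)) ≤ centralizer ({z} : Set G) := by
      rw [← D.sup_eq hst hsA]
      exact sup_le (D.A_le_cent hz) (zpowers_le.mpr (mem_centralizer_singleton_iff.mpr hsz.eq))
    refine (Subgroup.eq_of_le_of_card_ge hle ?_).symm
    rw [D.card_H hst hsA]
    exact Nat.le_of_dvd (by omega) (D.cent_a (D.ord_of_mem_A hz) hz1)
  set NP := normalizer ((P : Subgroup G) : Set G)
  have hHN : (centralizer ({D.t} : Set G)) ≤ NP := by
    intro g hg
    have h : ∀ k ∈ (centralizer ({D.t} : Set G)), ∀ u ∈ (P : Subgroup G), k * u * k⁻¹ ∈ (P : Subgroup G) := by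
      intro k hk u hu
      rw [hP] at hu ⊢
      obtain ⟨i, rfl⟩ := hu
      rw [← MulAut.conj_apply, map_zpow, MulAut.conj_apply]
      refine zpow_mem (mem_zpowers_of_cyclic hy (D.conj_mem_A hst hsA hk hy) ?_) i
      rw [← MulAut.conj_apply, ← map_pow, pow_orderOf_eq_one, map_one]
    refine mem_normalizer_iff.mpr fun u => ⟨h g hg u, fun hu => ?_⟩
    have := h g⁻¹ (inv_mem hg) _ hu
    simpa [mul_assoc] using this
  obtain ⟨e, he0, hel, hcard⟩ := exists_card_eq_mul hℓ hord NP fun g hg => by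
    refine mem_zpowers_of_cyclic (L := (P : Subgroup G)) hzP ((mem_normalizer_iff.mp hg z).mp hzP) ?_
    rw [← MulAut.conj_apply, ← map_pow, pow_orderOf_eq_one, map_one]
  rw [hCz, inf_of_le_right hHN, D.card_H hst hsA] at hcard
  have h1 : NP.index * e = (D.a + D.b) * D.b := by
    refine Nat.eq_of_mul_eq_mul_right (show 0 < 2 * D.a by omega) ?_
    rw [mul_assoc, ← hcard, Subgroup.index_mul_card, D.hcard]; ring
  have hn : Nat.card (Sylow ℓ G) ≡ 1 [MOD ℓ] := card_sylow_modEq_one ℓ G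
  rw [P.card_eq_index_normalizer] at hn
  have he : e ≡ 1 [MOD ℓ] := by
    simpa using ((hn.mul_right e).symm.trans (h1 ▸ Nat.ModEq.refl _)).trans (D.qb_mod hla)
  have he1 : e = 1 := he.eq_of_lt_of_lt hel hℓ.one_lt
  have hNP : NP = (centralizer ({D.t} : Set G)) := (Subgroup.eq_of_le_of_card_ge hHN
    (by rw [hcard, he1, one_mul, D.card_H hst hsA])).symm
  have hss := mul_self_eq_one_of_orderOf hs
  have hNC : NP ≤ centralizer ((P : Subgroup G) : Set G) := by
    rw [hNP, ← D.sup_eq hst hsA]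
    refine sup_le (fun x hx => mem_centralizer_iff.mpr fun u hu => D.comm_A (hPA hu) hx) (zpowers_le.mpr ?_)
    refine mem_centralizer_iff.mpr fun u hu => (Commute.eq ?_).symm
    refine commute_of_commute_omega hℓ hℓ2 (P : Subgroup G) P.2 hord hzP hsz hu
      ((mem_normalizer_iff.mp (hHN hst) u).mp hu) ?_
    rw [show s * (s * u * s⁻¹) * s⁻¹ = (s * s) * u * (s * s)⁻¹ by group, hss]; group
  have hK := MonoidHom.ker_transferSylow_isComplement' P hNC
  rcases (inferInstance : (MonoidHom.transferSylow P hNC).ker.Normal).eq_bot_or_eq_top with h | h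
  · rw [h, Subgroup.isComplement'_bot_left] at hK
    have h2 : Nat.card G ≤ D.a := by
      rw [← Subgroup.card_top (G := G), ← hK, ← D.card_A]
      exact Subgroup.card_le_of_le hPA
    rw [D.hcard] at h2
    have := Nat.mul_le_mul (Nat.mul_le_mul_right D.a (Nat.mul_le_mul (le_refl 2)
      (Nat.add_le_add D.ha2 D.hb3))) D.hb3
    omega
  · rw [h, Subgroup.isComplement'_top_left] at hK
    rw [hK, mem_bot] at hzP
    exact hz1 hzP

variable (hconj : ∀ x y : G, orderOf x = 2 → orderOf y = 2 → IsConj x y)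

include hconj

/-- `C_A(s) = ⟨t⟩`. -/
theorem fixed {y : G} (hy : y ∈ D.A) (hc : Commute s y) : y = 1 ∨ y = D.t := by
  by_cases h2 : y * y = 1
  · by_cases h1 : y = 1
    · exact Or.inl h1
    · exact Or.inr (D.eq_t_of_sq hy h2 h1)
  exfalso
  have hn0 := orderOf_pos y
  by_cases hodd : ∃ ℓ, ℓ.Prime ∧ ℓ ≠ 2 ∧ ℓ ∣ orderOf y
  · obtain ⟨ℓ, hℓ, hℓ2, hd⟩ := hodd
    refine D.no_odd hs hst hsA (pow_mem hy (orderOf y / ℓ)) hℓ hℓ2 ?_ (hc.pow_right _)
    rw [orderOf_pow' _ (Nat.div_pos (Nat.le_of_dvd hn0 hd) hℓ.pos).ne',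
      Nat.gcd_eq_right (Nat.div_dvd_of_dvd hd), Nat.div_div_self hd hn0.ne']
  · push Not at hodd
    have hpow := Nat.eq_prime_pow_of_unique_prime_dvd hn0.ne' (p := 2) fun {d} hd hdd => by
      by_contra hne; exact hodd d hd hne hdd
    set k := (orderOf y).primeFactorsList.length
    have hk : 2 ≤ k := by
      by_contra hlt
      refine h2 ?_
      rw [← pow_two]
      refine orderOf_dvd_iff_pow_eq_one.mp ?_
      rw [hpow]
      calc (2 : ℕ) ^ k ∣ 2 ^ 1 := Nat.pow_dvd_pow 2 (by omega)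
        _ = 2 := pow_one 2
    set v := y ^ 2 ^ (k - 2) with hv
    have hv4 : orderOf v = 4 := by
      rw [hv, orderOf_pow' _ (pow_ne_zero _ two_ne_zero), hpow, Nat.gcd_eq_right (Nat.pow_dvd_pow 2 (Nat.sub_le _ _)),
        Nat.pow_div (Nat.sub_le _ _) two_pos, show k - (k - 2) = 2 by omega]
      norm_num
    have hvv : v * v = D.t := by
      refine D.eq_t_of_sq (mul_mem (pow_mem hy _) (pow_mem hy _)) ?_ ?_
      · rw [← pow_two v, ← pow_add, show 2 + 2 = orderOf v by rw [hv4], pow_orderOf_eq_one]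
      · intro h
        have h' := orderOf_dvd_of_pow_eq_one (show v ^ 2 = 1 by rw [pow_two]; exact h)
        rw [hv4] at h'
        norm_num at h'
    obtain ⟨g, hg⟩ := isConj_iff.mp (hconj s D.t hs D.ord_t)
    have hvc : Commute s v := hc.pow_right _
    have hgv : g * v * g⁻¹ ∈ centralizer ({D.t} : Set G) := by
      rw [mem_centralizer_singleton_iff, ← hg]
      calc g * v * g⁻¹ * (g * s * g⁻¹) = g * (v * s) * g⁻¹ := by group
        _ = g * (s * v) * g⁻¹ := by rw [hvc.eq]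
        _ = _ := by group
    have hgt : g * D.t * g⁻¹ ∈ D.A := by
      rw [← hvv, show g * (v * v) * g⁻¹ = (g * v * g⁻¹) * (g * v * g⁻¹) by group]
      exact D.sq_mem_A hst hsA hgv
    have ht2 := mul_self_eq_one_of_orderOf D.ord_t
    have h5 := D.eq_t_of_sq hgt
      (by rw [show g * D.t * g⁻¹ * (g * D.t * g⁻¹) = g * (D.t * D.t) * g⁻¹ by group, ht2]; group)
      (by rw [Ne, conj_eq_one_iff]; exact (orderOf_eq_two_iff'.mp D.ord_t).2)
    refine hsA ?_
    have h6 : s = D.t := by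
      have h7 : g * s * g⁻¹ = g * D.t * g⁻¹ := hg.trans h5.symm
      simpa using h7
    rw [h6]; exact D.t_mem

theorem twist_mem {y : G} (hy : y ∈ D.A) : s * y * s⁻¹ * y = 1 ∨ s * y * s⁻¹ * y = D.t := by
  have hsy := D.conj_mem_A hst hsA hst hy
  refine D.fixed hs hst hsA hconj (mul_mem hsy hy) ?_
  show s * (s * y * s⁻¹ * y) = s * y * s⁻¹ * y * s
  have hss := mul_self_eq_one_of_orderOf hs
  have hc := D.comm_A hsy hy
  calc s * (s * y * s⁻¹ * y) = (s * s) * y * (s * s)⁻¹ * (s * y) := by group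
    _ = y * (s * y * s⁻¹) * s := by rw [hss]; group
    _ = s * y * s⁻¹ * y * s := by rw [hc]

/-- `s` inverts `A`. -/
theorem inverts {y : G} (hy : y ∈ D.A) : s * y * s⁻¹ = y⁻¹ := by
  classical
  haveI := D.isSimpleGroup
  haveI : Fact (Nat.Prime 2) := ⟨Nat.prime_two⟩
  suffices h : s * D.xa * s⁻¹ * D.xa = 1 by
    obtain ⟨i, rfl⟩ := hy
    rw [← MulAut.conj_apply, map_zpow, MulAut.conj_apply, eq_inv_of_mul_eq_one_left h, inv_zpow]
  rcases D.twist_mem hs hst hsA hconj (mem_zpowers D.xa) with h | h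
  · exact h
  exfalso
  have ha0 : D.a ≠ 0 := by have := D.ha2; omega
  -- the square classes
  have hcomm : Commute (s * D.xa * s⁻¹) D.xa :=
    D.comm_A (D.conj_mem_A hst hsA hst (mem_zpowers D.xa)) (mem_zpowers D.xa)
  have hφ : ∀ i : ℤ, s * D.xa ^ i * s⁻¹ * D.xa ^ i = D.t ^ i := fun i => by
    rw [← h, hcomm.mul_zpow, ← MulAut.conj_apply s D.xa, ← map_zpow, MulAut.conj_apply]
  have ht2 := mul_self_eq_one_of_orderOf D.ord_t
  have ht1 := (orderOf_eq_two_iff'.mp D.ord_t).2
  have hss := mul_self_eq_one_of_orderOf hs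
  have htpow : ∀ i : ℤ, (Even i → D.t ^ i = 1) ∧ (Odd i → D.t ^ i = D.t) := fun i => by
    constructor
    · rintro ⟨k, rfl⟩; rw [← two_mul, zpow_mul, zpow_two, ht2, one_zpow]
    · rintro ⟨k, rfl⟩; rw [zpow_add, zpow_mul, zpow_two, ht2, one_zpow, one_mul, zpow_one]
  -- a Sylow `2`-subgroup containing `s` and the `2`-part of `A`
  set v := D.a.factorization 2 with hvdef
  set c := D.a / 2 ^ v with hc
  have hdvd : 2 ^ v ∣ D.a := Nat.ordProj_dvd _ _
  have hv1 : 1 ≤ v := (Nat.prime_two.dvd_iff_one_le_factorization ha0).mp D.ha.two_dvd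
  have hcodd : Odd c := by
    rw [← Nat.not_even_iff_odd, even_iff_two_dvd]
    exact Nat.not_dvd_ordCompl Nat.prime_two ha0
  set m := D.xa ^ c with hm
  have hmA : m ∈ D.A := pow_mem (mem_zpowers _) _
  have hmord : orderOf m = 2 ^ v := by
    rw [hm, orderOf_pow' _ (Nat.div_pos (Nat.le_of_dvd (by omega) hdvd) (pow_pos two_pos _)).ne',
      D.ord_xa, Nat.gcd_eq_right (Nat.div_dvd_of_dvd hdvd), Nat.div_div_self hdvd ha0]
  have hms : s * m * s⁻¹ * m = D.t := by
    have h1 := hφ c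
    rw [zpow_natCast, (htpow c).2 (by exact_mod_cast hcodd)] at h1
    exact h1
  have hv2 : 2 ≤ v := by
    by_contra hlt
    have hm2 : m * m = 1 := by
      rw [← pow_two, show (2 : ℕ) = orderOf m by rw [hmord, show v = 1 by omega, pow_one], pow_orderOf_eq_one]
    have hm1 : m ≠ 1 := fun e => by
      rw [e, orderOf_one] at hmord
      exact (Nat.one_lt_two_pow (by omega : v ≠ 0)).ne hmord
    rw [D.eq_t_of_sq hmA hm2 hm1] at hms
    rw [show s * D.t * s⁻¹ = D.t from mul_inv_eq_iff_eq_mul.mpr (mem_centralizer_singleton_iff.mp hst)] at hms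
    exact ht1 (by rw [← hms, ht2])
  have hMn : zpowers s ≤ normalizer (zpowers m : Set G) := by
    refine zpowers_le.mpr (mem_normalizer_iff.mpr fun u => ?_)
    have hh : ∀ u ∈ zpowers m, s * u * s⁻¹ ∈ zpowers m := by
      rintro u ⟨i, rfl⟩
      rw [← MulAut.conj_apply, map_zpow, MulAut.conj_apply]
      refine zpow_mem (mem_zpowers_of_cyclic hmA (D.conj_mem_A hst hsA hst hmA) ?_) i
      rw [← MulAut.conj_apply, ← map_pow, pow_orderOf_eq_one, map_one]
    refine ⟨hh u, fun hu => ?_⟩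
    have h3 := hh _ hu
    rwa [show s * (s * u * s⁻¹) * s⁻¹ = (s * s) * u * (s * s)⁻¹ by group, hss, one_mul, inv_one, mul_one] at h3
  have hp : IsPGroup 2 ↥(zpowers s ⊔ zpowers m) :=
    (IsPGroup.of_card (n := 1) (by rw [Nat.card_zpowers, hs, pow_one]) : IsPGroup 2 (zpowers s)).to_sup_of_normal_right'
      (IsPGroup.of_card (by rw [Nat.card_zpowers, hmord])) hMn
  obtain ⟨S, hS⟩ := hp.exists_le_sylow
  have hmS : m ∈ (S : Subgroup G) := hS (mem_sup_right (mem_zpowers m))
  have hsS : s ∈ (S : Subgroup G) := hS (mem_sup_left (mem_zpowers s))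
  have hfac : (Nat.card G).factorization 2 = v + 1 := by
    have hqb : ¬ 2 ∣ (D.a + D.b) * D.b := fun h => by
      rcases Nat.prime_two.dvd_mul.mp h with h' | h'
      · exact Nat.not_odd_iff_even.mpr (even_iff_two_dvd.mpr h') (D.ha.add_odd D.hb)
      · exact Nat.not_odd_iff_even.mpr (even_iff_two_dvd.mpr h') D.hb
    rw [D.hcard, show 2 * (D.a + D.b) * D.a * D.b = 2 * D.a * ((D.a + D.b) * D.b) by ring,
      Nat.factorization_mul (by omega) (fun h => hqb (by rw [h]; exact dvd_zero 2)), Finsupp.add_apply,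
      Nat.factorization_eq_zero_of_not_dvd hqb, Nat.factorization_mul two_ne_zero ha0, Finsupp.add_apply,
      Nat.prime_two.factorization_self]
    omega
  have hSH : ∀ g ∈ (S : Subgroup G), g ∈ centralizer ({D.t} : Set G) := by
    have hScard : Nat.card S = 2 ^ (v + 1) := by rw [S.card_eq_multiplicity, hfac]
    have hle : zpowers s ⊔ zpowers m ≤ centralizer ({D.t} : Set G) :=
      sup_le (zpowers_le.mpr hst) (zpowers_le.mpr (D.A_le_cent D.t_mem hmA))
    have he : zpowers s ⊔ zpowers m = (S : Subgroup G) := by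
      refine Subgroup.eq_of_le_of_card_ge hS ?_
      obtain ⟨k, hk⟩ := Subgroup.card_dvd_of_le (le_sup_right : zpowers m ≤ zpowers s ⊔ zpowers m)
      rw [hScard, hk, Nat.card_zpowers, hmord, pow_succ]
      refine Nat.mul_le_mul_left _ ?_
      by_contra hlt
      have hk1 : k = 1 := by
        have : k ≠ 0 := fun h => by rw [h, mul_zero] at hk; exact Nat.card_pos.ne' hk
        omega
      have e := Subgroup.eq_of_le_of_card_ge (le_sup_right : zpowers m ≤ zpowers s ⊔ zpowers m)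
        (by rw [hk, hk1, mul_one])
      exact hsA (zpowers_le.mpr hmA (e.symm ▸ mem_sup_left (mem_zpowers s)))
    exact fun g hg => hle (he.symm ▸ hg)
  -- the dihedral subgroup of index two
  have hφsq : ∀ u ∈ D.A, (u * s) * (u * s) = s * u * s⁻¹ * u := fun u hu => by
    rw [D.comm_A (D.conj_mem_A hst hsA hst hu) hu]
    calc u * s * (u * s) = u * (s * u * s⁻¹) * (s * s) := by group
      _ = u * (s * u * s⁻¹) := by rw [hss, mul_one]
  set W : Subgroup G := (S : Subgroup G) ⊓ (zpowers (D.xa ^ 2) ⊔ zpowers s) with hW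
  -- elements of `⟨xa²⟩⟨s⟩`
  have hsq_norm : zpowers s ≤ normalizer (zpowers (D.xa ^ 2) : Set G) := by
    refine zpowers_le.mpr (mem_normalizer_iff.mpr fun u => ?_)
    have hA2 : D.xa ^ 2 ∈ D.A := pow_mem (mem_zpowers _) _
    have hh : ∀ u ∈ zpowers (D.xa ^ 2), s * u * s⁻¹ ∈ zpowers (D.xa ^ 2) := by
      rintro u ⟨i, rfl⟩
      rw [← MulAut.conj_apply, map_zpow, MulAut.conj_apply]
      refine zpow_mem (mem_zpowers_of_cyclic hA2 (D.conj_mem_A hst hsA hst hA2) ?_) i
      rw [← MulAut.conj_apply, ← map_pow, pow_orderOf_eq_one, map_one]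
    refine ⟨hh u, fun hu => ?_⟩
    have h3 := hh _ hu
    rwa [show s * (s * u * s⁻¹) * s⁻¹ = (s * s) * u * (s * s)⁻¹ by group, hss, one_mul, inv_one, mul_one] at h3
  have hWmem : ∀ g : G, g ∈ zpowers (D.xa ^ 2) ⊔ zpowers s ↔
      g ∈ zpowers (D.xa ^ 2) ∨ g * s ∈ zpowers (D.xa ^ 2) := by
    intro g
    constructor
    · intro hg
      rw [← SetLike.mem_coe, Subgroup.coe_mul_of_right_le_normalizer_left _ _ hsq_norm] at hg
      obtain ⟨u, hu, w, ⟨i, hi⟩, rfl⟩ := hg
      rcases Int.even_or_odd i with ⟨k, hk⟩ | ⟨k, hk⟩ <;>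
        simp only [hk, ← two_mul, zpow_add, zpow_mul, zpow_one, zpow_two, hss, one_zpow, one_mul] at hi <;>
        subst hi
      · exact Or.inl (by simpa using hu)
      · refine Or.inr ?_
        show u * s * s ∈ _
        rw [mul_assoc, hss, mul_one]; exact hu
    · rintro (hg | hg)
      · exact mem_sup_left hg
      · rw [← mul_inv_cancel_right g s]
        exact mul_mem (mem_sup_left hg) (mem_sup_right (inv_mem (mem_zpowers s)))
  have hsq_t : ∀ i : ℤ, Even i ↔ D.xa ^ i ∈ zpowers (D.xa ^ 2) := by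
    intro i
    constructor
    · rintro ⟨k, rfl⟩
      refine ⟨k, ?_⟩
      show (D.xa ^ 2) ^ k = D.xa ^ (k + k)
      rw [← zpow_natCast D.xa 2, ← zpow_mul, Nat.cast_ofNat, two_mul]
    · rintro ⟨k, hk⟩
      replace hk : (D.xa ^ 2) ^ k = D.xa ^ i := hk
      rw [← zpow_natCast D.xa 2, ← zpow_mul, Nat.cast_ofNat] at hk
      have h1 : D.t ^ (2 * k) = D.t ^ i := by rw [← hφ, ← hφ, hk]
      by_contra hne
      rw [(htpow _).1 (even_two_mul k), (htpow i).2 (Int.not_even_iff_odd.mp hne)] at h1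
      exact ht1 h1.symm
  -- an element of `S` outside `W`
  have hout : ∀ g ∈ (S : Subgroup G), g ∉ W → 2 < orderOf g := by
    intro g hgS hgW
    have hg1 : g ≠ 1 := fun e => hgW (e ▸ one_mem W)
    have hnot : ¬ (g ∈ zpowers (D.xa ^ 2) ∨ g * s ∈ zpowers (D.xa ^ 2)) := fun h => hgW ⟨hgS, (hWmem g).mpr h⟩
    push Not at hnot
    by_contra hlt
    have hgg : g * g = 1 := by
      have h1 : orderOf g = 2 := by
        have := orderOf_pos g
        have : orderOf g ≠ 1 := fun h => hg1 (orderOf_eq_one_iff.mp h)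
        omega
      exact mul_self_eq_one_of_orderOf h1
    by_cases hgA : g ∈ D.A
    · obtain ⟨i, hi⟩ := hgA
      have : g = D.t := D.eq_t_of_sq ⟨i, hi⟩ hgg hg1
      refine hnot.1 ?_
      have he : Even (D.a / 2 : ℕ) := by
        have h4 : 2 ^ 2 ∣ D.a := (Nat.pow_dvd_pow 2 hv2).trans hdvd
        obtain ⟨j, hj⟩ := h4
        exact ⟨j, by omega⟩
      rw [this, t, ← zpow_natCast D.xa (D.a / 2)]
      exact (hsq_t _).mp (by exact_mod_cast he)
    · obtain ⟨i, hi⟩ := D.mul_s_mem hst hsA (hSH g hgS) hgA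
      have hi' : D.xa ^ i = g * s := hi
      have h2 := hφsq _ (⟨i, hi⟩ : g * s ∈ D.A)
      rw [mul_assoc g s s, hss, mul_one, hgg, ← hi', hφ] at h2
      rcases Int.even_or_odd i with he | ho
      · exact hnot.2 (hi' ▸ (hsq_t i).mp he)
      · exact ht1 (by rw [← (htpow i).2 ho, h2])
  have hmW : m ∉ W := fun hmem => by
    rcases (hWmem m).mp hmem.2 with h1 | h1
    · rw [hm, ← zpow_natCast D.xa c] at h1
      exact absurd ((hsq_t _).mpr h1) (Int.not_even_iff_odd.mpr (by exact_mod_cast hcodd))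
    · exact hsA ((Subgroup.mul_mem_cancel_left _ hmA).mp (zpowers_le.mpr (pow_mem (mem_zpowers _) 2) h1))
  have hrel : W.relIndex (S : Subgroup G) = 2 := by
    refine Subgroup.index_eq_two_iff.mpr ⟨⟨m, hmS⟩, fun g => ?_⟩
    simp only [Subgroup.mem_subgroupOf, Subgroup.coe_mul, hW, Subgroup.mem_inf, g.2, hmS, mul_mem g.2 hmS,
      true_and, hWmem]
    have hgH := hSH g g.2
    by_cases hgA : (g : G) ∈ D.A
    · obtain ⟨i, hi⟩ := hgA
      have hi' : D.xa ^ i = (g : G) := hi
      have hns : ∀ x ∈ D.A, ¬ x * s ∈ zpowers (D.xa ^ 2) := fun x hx h1 =>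
        hsA ((Subgroup.mul_mem_cancel_left _ hx).mp (zpowers_le.mpr (pow_mem (mem_zpowers _) 2) h1))
      simp only [hns _ (mul_mem ⟨i, hi⟩ hmA), hns _ (⟨i, hi⟩ : (g : G) ∈ D.A), or_false]
      rw [← hi', hm, ← zpow_natCast D.xa c, ← zpow_add, ← hsq_t, ← hsq_t, Int.even_add,
        iff_false_intro (Int.not_even_iff_odd.mpr (by exact_mod_cast hcodd) : ¬ Even (c : ℤ))]
      by_cases he : Even i <;> simp [he, Xor]
    · obtain ⟨i, hi⟩ := D.mul_s_mem hst hsA hgH hgA
      have hi' : D.xa ^ i = (g : G) * s := hi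
      have hgm : (g : G) * m * s = D.xa ^ i * (s * m * s⁻¹) := by
        rw [hi', inv_eq_self_of_orderOf hs]
        calc (g : G) * m * s = (g : G) * 1 * m * s := by group
          _ = (g : G) * (s * s) * m * s := by rw [hss]
          _ = _ := by group
      have hgA2 : ¬ (g : G) ∈ zpowers (D.xa ^ 2) := fun h1 => hgA (zpowers_le.mpr (pow_mem (mem_zpowers _) 2) h1)
      have hgmA : ¬ (g : G) * m ∈ zpowers (D.xa ^ 2) := fun h1 => hgA
        ((Subgroup.mul_mem_cancel_right _ hmA).mp (zpowers_le.mpr (pow_mem (mem_zpowers _) 2) h1))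
      simp only [hgA2, hgmA, false_or]
      have hmi : s * m * s⁻¹ = D.t * m⁻¹ := by rw [← hms, mul_inv_cancel_right]
      rw [hgm, hmi, t, hm, ← hi', ← zpow_natCast D.xa (D.a / 2), ← zpow_natCast D.xa c, ← zpow_neg, ← zpow_add, ← zpow_add,
        ← hsq_t, ← hsq_t, Int.even_add, Int.even_add, even_neg,
        iff_false_intro (Int.not_even_iff_odd.mpr (by exact_mod_cast hcodd) : ¬ Even (c : ℤ))]
      have he2 : Even ((D.a / 2 : ℕ) : ℤ) := by
        have h4 : 2 ^ 2 ∣ D.a := (Nat.pow_dvd_pow 2 hv2).trans hdvd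
        obtain ⟨j, hj⟩ := h4
        exact ⟨j, by omega⟩
      rw [iff_true_intro he2]
      by_cases he : Even i <;> simp [he, Xor]
  -- fuse `m s` into `W`
  have hidx : ∀ H : Subgroup G, H.index ≠ 2 := fun H hH => by
    haveI := Subgroup.normal_of_index_eq_two hH
    rcases (inferInstance : H.Normal).eq_bot_or_eq_top with e | e
    · rw [e, Subgroup.index_bot, D.hcard] at hH
      have := Nat.mul_le_mul (Nat.mul_le_mul (Nat.mul_le_mul (le_refl 2)
        (Nat.add_le_add D.ha2 D.hb3)) D.ha2) D.hb3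
      omega
    · rw [e, Subgroup.index_top] at hH; norm_num at hH
  have hx2 : (m * s) ^ 2 = D.t := by rw [pow_two, hφsq m hmA, hms]
  have hxord : orderOf (m * s) = 2 ^ 2 :=
    orderOf_eq_prime_pow (by rw [pow_one, hx2]; exact ht1) (by
      rw [show (2 : ℕ) ^ (1 + 1) = 2 * 2 by norm_num, pow_mul, hx2, pow_two, ht2])
  obtain ⟨g, hg⟩ := Cfsg.Agent.S3225.result (even_iff_two_dvd.mpr (D.hcard ▸ ((dvd_mul_right 2 _).mul_right _).mul_right _))
    hidx S W inf_le_left hrel 2 (by norm_num) (by simpa using hout) (m * s) (mul_mem hmS hsS) hxord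
  set x' := g * (m * s) * g⁻¹
  have hx'sq : x' ^ 2 = g * D.t * g⁻¹ := by
    show (g * (m * s) * g⁻¹) ^ 2 = _
    rw [← MulAut.conj_apply, ← map_pow, hx2, MulAut.conj_apply]
  have hx'A : x' ∈ D.A := by
    rcases (hWmem x').mp hg.2 with h1 | h1
    · exact zpowers_le.mpr (pow_mem (mem_zpowers _) 2) h1
    · exfalso
      obtain ⟨k, hk⟩ := h1
      have hk' : D.xa ^ (2 * k) = x' * s := by
        rw [zpow_mul, zpow_two, ← pow_two]; exact hk
      have h3 := hφsq _ (⟨2 * k, hk'⟩ : x' * s ∈ D.A)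
      rw [mul_assoc x' s s, hss, mul_one, ← pow_two, hx'sq, ← hk', hφ, (htpow _).1 (even_two_mul k),
        conj_eq_one_iff] at h3
      exact ht1 h3
  have hgt : g * D.t * g⁻¹ = D.t := D.eq_t_of_sq (hx'sq ▸ pow_mem hx'A 2)
    (by rw [show g * D.t * g⁻¹ * (g * D.t * g⁻¹) = g * (D.t * D.t) * g⁻¹ by group, ht2]; group)
    (by rw [Ne, conj_eq_one_iff]; exact ht1)
  have hgH : g⁻¹ ∈ centralizer ({D.t} : Set G) :=
    inv_mem (mem_centralizer_singleton_iff.mpr (mul_inv_eq_iff_eq_mul.mp hgt))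
  have h4 := D.conj_mem_A hst hsA hgH hx'A
  rw [show g⁻¹ * x' * g⁻¹⁻¹ = m * s by show g⁻¹ * (g * (m * s) * g⁻¹) * g⁻¹⁻¹ = _; group] at h4
  exact hsA ((Subgroup.mul_mem_cancel_left _ hmA).mp h4)

omit hs hst hsA hconj in
/-- Recognition by order and element orders, odd characteristic. -/
theorem recognition :
    ∃ (F : Type) (_ : Field F) (_ : Fintype F), Odd (Fintype.card F) ∧
      Nonempty (G ≃* Matrix.ProjectiveSpecialLinearGroup (Fin 2) F) := by
  classical
  haveI := D.isSimpleGroup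
  obtain ⟨s, hs, hst, hsA, hconj⟩ := D.involutions
  have hA : IsMulCommutative D.A := inferInstance
  refine CfsgLib.BSW.psl2_of_concl (Cfsg.Agent.S3282.result D.t D.ord_t D.A hA (D.A_le_cent D.t_mem) D.t_mem s hs hst
    hsA (D.sup_eq hst hsA) ?_ (fun x hx => D.inverts hs hst hsA hconj hx) ?_ hconj)
  · refine le_antisymm ?_ (zpowers_le.mpr ⟨D.t_mem, mem_centralizer_singleton_iff.mpr
      (mem_centralizer_singleton_iff.mp hst).symm⟩)
    rintro y ⟨hy, hy'⟩
    rcases D.fixed hs hst hsA hconj hy (mem_centralizer_singleton_iff.mp hy').symm with rfl | rfl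
    · exact one_mem _
    · exact mem_zpowers _
  · intro g hg
    by_contra hne
    obtain ⟨y, ⟨hyA, u, hu, huy⟩, hy1⟩ := (Subgroup.bot_or_exists_ne_one _).resolve_left hne
    change g * u * g⁻¹ = y at huy
    by_cases hyt : y = D.t
    · refine hg (mem_centralizer_singleton_iff.mpr (mul_inv_eq_iff_eq_mul.mp ?_))
      have ht2 := mul_self_eq_one_of_orderOf D.ord_t
      have h1 := D.eq_t_of_sq hu
        (by rw [← conj_eq_one_iff (a := g), show g * (u * u) * g⁻¹ = (g * u * g⁻¹) * (g * u * g⁻¹) by group,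
          huy, hyt, ht2])
        (fun e => hy1 (by rw [← huy, e]; group))
      rw [← h1, huy, hyt]
      exact h1.symm
    have hCy : centralizer ({y} : Set G) = D.A := by
      refine le_antisymm (fun x hx => ?_) (D.A_le_cent hyA)
      by_contra hxA
      have hc := D.card_cent_eq hyA hy1 hx hxA
      -- `A` is normal in `C(y)`, so `C(y) ≤ C(t)`
      have hi : (D.A.subgroupOf (centralizer ({y} : Set G))).index = 2 := by
        have h := (D.A.subgroupOf (centralizer ({y} : Set G))).index_mul_card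
        rw [Nat.card_congr (Subgroup.subgroupOfEquivOfLe (D.A_le_cent hyA)).toEquiv, D.card_A, hc] at h
        exact Nat.eq_of_mul_eq_mul_right (by have := D.ha2; omega) h
      have hle : centralizer ({y} : Set G) ≤ centralizer ({D.t} : Set G) := fun k hk => by
        have hkt : k * D.t * k⁻¹ ∈ D.A :=
          (Subgroup.normal_of_index_eq_two hi).conj_mem ⟨_, D.A_le_cent hyA D.t_mem⟩ D.t_mem ⟨k, hk⟩
        refine mem_centralizer_singleton_iff.mpr (mul_inv_eq_iff_eq_mul.mp (D.eq_t_of_sq hkt ?_ ?_))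
        · rw [show k * D.t * k⁻¹ * (k * D.t * k⁻¹) = k * (D.t * D.t) * k⁻¹ by group,
            mul_self_eq_one_of_orderOf D.ord_t]; group
        · rw [Ne, conj_eq_one_iff]; exact (orderOf_eq_two_iff'.mp D.ord_t).2
      have he := Subgroup.eq_of_le_of_card_ge hle (by rw [hc, D.card_H hst hsA])
      have hsy : s ∈ centralizer ({y} : Set G) := he ▸ hst
      rcases D.fixed hs hst hsA hconj hyA (mem_centralizer_singleton_iff.mp hsy) with h | h
      · exact hy1 h
      · exact hyt h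
    have hle : D.A.map (MulAut.conj g).toMonoidHom ≤ D.A := by
      rintro _ ⟨x, hx, rfl⟩
      show g * x * g⁻¹ ∈ D.A
      have h1 : g * x * g⁻¹ ∈ centralizer ({y} : Set G) := by
        rw [mem_centralizer_singleton_iff, ← huy]
        calc g * x * g⁻¹ * (g * u * g⁻¹) = g * (x * u) * g⁻¹ := by group
          _ = g * (u * x) * g⁻¹ := by rw [D.comm_A hx hu]
          _ = _ := by group
      rwa [hCy] at h1
    refine hg (mem_centralizer_singleton_iff.mpr (mul_inv_eq_iff_eq_mul.mp (D.eq_t_of_sq (hle ⟨_, D.t_mem, rfl⟩) ?_ ?_)))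
    · show g * D.t * g⁻¹ * (g * D.t * g⁻¹) = 1
      rw [show g * D.t * g⁻¹ * (g * D.t * g⁻¹) = g * (D.t * D.t) * g⁻¹ by group,
        mul_self_eq_one_of_orderOf D.ord_t]; group
    · show g * D.t * g⁻¹ ≠ 1
      rw [Ne, conj_eq_one_iff]; exact (orderOf_eq_two_iff'.mp D.ord_t).2

end CfsgLib.SpecOrderPSL2.Dat
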