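import Cfsg.Agent.Lib.SpecOrderPSL2.Basic
import Cfsg.Agent.Lib.Involutions
import Cfsg.Agent.Lib.FrobAction.Order

/-!
A group with the order and the element orders of `PSL(2,q)`, `q` odd, is simple.
-/

set_option autoImplicit false
set_option linter.style.haveILetI false

namespace CfsgLib.SpecOrderPSL2

open Subgroup

universe u

/-- The order and element order data, with `a = (q - ε)/2` even and `b = (q + ε)/2` odd. -/
structure Dat (G : Type u) [Group G] where
  p : ℕ
  f : ℕ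
  a : ℕ
  b : ℕ
  hp : p.Prime
  hf : 1 ≤ f
  ha : Even a
  hb : Odd b
  ha2 : 2 ≤ a
  hb3 : 3 ≤ b
  hab : b = a + 1 ∨ a = b + 1
  hq : p ^ f = a + b
  hcard : Nat.card G = 2 * (a + b) * a * b
  hord : ∀ g : G, orderOf g ∣ a ∨ orderOf g ∣ b ∨ orderOf g ∣ p
  exA : ∃ x : G, orderOf x = a
  exB : ∃ x : G, orderOf x = b

/-- A Sylow subgroup inside a cyclic subgroup of coprime cofactor. -/
theorem exists_sylow_zpowers {G : Type u} [Group G] [Finite G] {r : ℕ} [hr : Fact r.Prime] {x : G} {R : ℕ}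
    (hG : Nat.card G = orderOf x * R) (hR : ¬ r ∣ R) :
    ∃ y ∈ zpowers x, ∃ P : Sylow r G, (P : Subgroup G) = zpowers y := by
  have hx0 : orderOf x ≠ 0 := (orderOf_pos x).ne'
  have hR0 : R ≠ 0 := fun h => hR (h ▸ dvd_zero r)
  set v := (orderOf x).factorization r
  set c := orderOf x / r ^ v with hc
  have hdvd : r ^ v ∣ orderOf x := Nat.ordProj_dvd _ _
  have hv : (Nat.card G).factorization r = v := by
    rw [hG, Nat.factorization_mul hx0 hR0, Finsupp.add_apply, Nat.factorization_eq_zero_of_not_dvd hR, add_zero]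
  have hord : orderOf (x ^ c) = r ^ v := by
    rw [orderOf_pow' x (Nat.div_pos (Nat.le_of_dvd (orderOf_pos x) hdvd) (pow_pos hr.out.pos _)).ne',
      Nat.gcd_eq_right (Nat.div_dvd_of_dvd hdvd), Nat.div_div_self hdvd hx0]
  refine ⟨x ^ c, pow_mem (mem_zpowers x) c, Sylow.ofCard (zpowers (x ^ c)) ?_, Sylow.coe_ofCard _ _⟩
  rw [Nat.card_zpowers, hord, hv]

namespace Dat

variable {G : Type u} [Group G] (D : Dat G)

include D

theorem cop_ab : D.a.Coprime D.b := by
  rcases D.hab with h | h <;> rw [h] <;> simp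

theorem cop_aq : D.a.Coprime (D.a + D.b) := by
  rw [Nat.coprime_self_add_right]; exact D.cop_ab

theorem cop_bq : D.b.Coprime (D.a + D.b) := by
  rw [Nat.coprime_add_self_right]; exact D.cop_ab.symm

theorem p_dvd_q : D.p ∣ D.a + D.b := D.hq ▸ dvd_pow_self D.p (by have := D.hf; omega)

theorem cop_ap : D.a.Coprime D.p := D.cop_aq.coprime_dvd_right D.p_dvd_q

theorem cop_bp : D.b.Coprime D.p := D.cop_bq.coprime_dvd_right D.p_dvd_q

theorem isoA : Iso D.a G := fun g => by
  rcases D.hord g with h | h | h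
  · exact Or.inl h
  · exact Or.inr (D.cop_ab.symm.coprime_dvd_left h)
  · exact Or.inr (D.cop_ap.symm.coprime_dvd_left h)

theorem isoB : Iso D.b G := fun g => by
  rcases D.hord g with h | h | h
  · exact Or.inr (D.cop_ab.coprime_dvd_left h)
  · exact Or.inl h
  · exact Or.inr (D.cop_bp.symm.coprime_dvd_left h)

theorem isoP : Iso D.p G := fun g => by
  rcases D.hord g with h | h | h
  · exact Or.inr (D.cop_ap.coprime_dvd_left h)
  · exact Or.inr (D.cop_bp.coprime_dvd_left h)
  · exact Or.inl h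

/-- `q b ≡ 1` modulo every divisor of `a`. -/
theorem qb_mod {m : ℕ} (hm : m ∣ D.a) : Nat.ModEq m ((D.a + D.b) * D.b) 1 := by
  refine Nat.ModEq.of_dvd hm (Nat.modEq_iff_dvd.mpr ?_)
  rcases D.hab with h | h <;> rw [h] <;> push_cast
  · exact ⟨-(2 * (D.a : ℤ) + 3), by ring⟩
  · exact ⟨-(2 * (D.b : ℤ) - 1), by ring⟩

/-- `q a ≡ 1` modulo every divisor of `b`. -/
theorem qa_mod {m : ℕ} (hm : m ∣ D.b) : Nat.ModEq m ((D.a + D.b) * D.a) 1 := by
  refine Nat.ModEq.of_dvd hm (Nat.modEq_iff_dvd.mpr ?_)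
  rcases D.hab with h | h <;> rw [h] <;> push_cast
  · exact ⟨-(2 * (D.a : ℤ) - 1), by ring⟩
  · exact ⟨-(2 * (D.b : ℤ) + 3), by ring⟩

variable [Finite G]

theorem cent_a {z : G} (hz : orderOf z ∣ D.a) (hz1 : z ≠ 1) :
    Nat.card (centralizer ({z} : Set G)) ∣ 2 * D.a :=
  card_centralizer_dvd (R := (D.a + D.b) * D.b) D.isoA (by rw [D.hcard]; ring)
    (D.cop_aq.mul_right D.cop_ab) hz hz1

theorem cent_b {z : G} (hz : orderOf z ∣ D.b) (hz1 : z ≠ 1) :
    Nat.card (centralizer ({z} : Set G)) ∣ D.b :=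
  card_centralizer_dvd (R := 2 * ((D.a + D.b) * D.a)) D.isoB (by rw [D.hcard]; ring)
    ((Nat.coprime_two_right.mpr D.hb).mul_right (D.cop_bq.mul_right D.cop_ab.symm)) hz hz1

theorem cent_p {z : G} (hz : orderOf z ∣ D.p) (hz1 : z ≠ 1) :
    Nat.card (centralizer ({z} : Set G)) ∣ D.a + D.b :=
  card_centralizer_dvd (R := 2 * (D.a * D.b)) D.isoP (by rw [D.hcard]; ring)
    (Nat.Coprime.mul_right (Nat.coprime_two_right.mpr (by
      rcases D.hp.eq_two_or_odd' with h | h
      · exfalso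
        have h2 : Odd (D.a + D.b) := D.ha.add_odd D.hb
        rw [← D.hq, h] at h2
        exact Nat.not_odd_iff_even.mpr ((Nat.even_pow' (by have := D.hf; omega)).mpr even_two) h2
      · exact h)) (D.cop_ap.symm.mul_right D.cop_bp.symm)) hz hz1

/-- An element of order `b`. -/
noncomputable def xb : G := D.exB.choose

theorem ord_xb : orderOf D.xb = D.b := D.exB.choose_spec

/-- The cyclic subgroup of order `b`. -/
noncomputable abbrev B : Subgroup G := zpowers D.xb

theorem card_B : Nat.card D.B = D.b := by rw [Nat.card_zpowers, D.ord_xb]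

theorem ord_of_mem_B {z : G} (hz : z ∈ D.B) : orderOf z ∣ D.b :=
  D.ord_xb ▸ orderOf_dvd_of_mem_zpowers hz

theorem cent_B {z : G} (hz : z ∈ D.B) (hz1 : z ≠ 1) : centralizer ({z} : Set G) = D.B := by
  refine (Subgroup.eq_of_le_of_card_ge (zpowers_le.mpr (mem_centralizer_singleton_iff.mpr ?_)) ?_).symm
  · obtain ⟨i, rfl⟩ := hz
    exact (Commute.self_zpow D.xb i).eq
  · rw [Nat.card_zpowers, D.ord_xb]
    exact Nat.le_of_dvd (by have := D.hb3; omega) (D.cent_b (D.ord_of_mem_B hz) hz1)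

/-- The normaliser of `B`. -/
noncomputable abbrev N : Subgroup G := normalizer (D.B : Set G)

theorem mem_N_of_conj_mem {z g : G} (hz : z ∈ D.B) (hz1 : z ≠ 1) (h : g * z * g⁻¹ ∈ D.B) : g ∈ D.N := by
  have h1 : g * z * g⁻¹ ≠ 1 := fun e => hz1 (conj_eq_one_iff.mp e)
  refine mem_normalizer_iff.mpr fun y => ?_
  rw [← D.cent_B hz hz1]
  conv_rhs => rw [D.cent_B hz hz1, ← D.cent_B h h1]
  simp only [mem_centralizer_singleton_iff]
  constructor
  · intro hy
    calc g * y * g⁻¹ * (g * z * g⁻¹) = g * (y * z) * g⁻¹ := by group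
      _ = g * (z * y) * g⁻¹ := by rw [hy]
      _ = _ := by group
  · intro hy
    calc y * z = g⁻¹ * (g * y * g⁻¹ * (g * z * g⁻¹)) * g := by group
      _ = g⁻¹ * (g * z * g⁻¹ * (g * y * g⁻¹)) * g := by rw [hy]
      _ = _ := by group

theorem conj_mem_zpowers {g z : G} (hg : g ∈ D.N) (hz : z ∈ D.B) : g * z * g⁻¹ ∈ zpowers z := by
  have : IsCyclic D.B := inferInstance
  exact mem_zpowers_of_cyclic hz ((mem_normalizer_iff.mp hg z).mp hz)
    (by rw [← MulAut.conj_apply, ← map_pow, pow_orderOf_eq_one, map_one])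

theorem normalizer_eq {y : G} (hy : y ∈ D.B) (hy1 : y ≠ 1) : normalizer (zpowers y : Set G) = D.N := by
  refine le_antisymm (fun g hg => D.mem_N_of_conj_mem hy hy1 ?_) (fun g hg => mem_normalizer_iff.mpr fun u => ?_)
  · exact zpowers_le.mpr hy ((mem_normalizer_iff.mp hg y).mp (mem_zpowers y))
  · have h : ∀ k : G, k ∈ D.N → ∀ u ∈ zpowers y, k * u * k⁻¹ ∈ zpowers y := by
      rintro k hk u ⟨i, rfl⟩
      rw [← MulAut.conj_apply, map_zpow, MulAut.conj_apply]
      exact zpow_mem (D.conj_mem_zpowers hk hy) i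
    refine ⟨h g hg u, fun hu => ?_⟩
    have := h g⁻¹ (inv_mem hg) _ hu
    simpa [mul_assoc] using this

theorem exists_sylow_B {r : ℕ} [hr : Fact r.Prime] (hrb : r ∣ D.b) :
    ∃ y ∈ D.B, y ≠ 1 ∧ ∃ P : Sylow r G, (P : Subgroup G) = zpowers y := by
  have hnd : ¬ r ∣ 2 * ((D.a + D.b) * D.a) := fun h => hr.out.one_lt.ne'
    (Nat.eq_one_of_dvd_coprimes
      ((Nat.coprime_two_right.mpr D.hb).mul_right (D.cop_bq.mul_right D.cop_ab.symm)) hrb h)
  obtain ⟨y, hy, P, hP⟩ := exists_sylow_zpowers (r := r) (x := D.xb) (R := 2 * ((D.a + D.b) * D.a))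
    (by rw [D.hcard, D.ord_xb]; ring) hnd
  refine ⟨y, hy, fun h1 => ?_, P, hP⟩
  have h2 : r ∣ Nat.card (P : Subgroup G) := by
    refine P.dvd_card_of_dvd_card ?_
    rw [D.hcard]; exact hrb.trans (dvd_mul_left _ _)
  rw [hP, h1, Nat.card_zpowers, orderOf_one] at h2
  exact hr.out.one_lt.ne' (Nat.dvd_one.mp h2)

theorem card_N : Nat.card D.N = 2 * D.b := by
  obtain ⟨r, hr, hrb⟩ := Nat.exists_prime_and_dvd (n := D.b) (by have := D.hb3; omega)
  haveI := Fact.mk hr
  obtain ⟨y, hy, hy1, P, hP⟩ := D.exists_sylow_B hrb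
  obtain ⟨z, hz⟩ := exists_prime_orderOf_dvd_card' (G := D.B) r (by rw [D.card_B]; exact hrb)
  have hz' : orderOf (z : G) = r := by rw [Subgroup.orderOf_coe, hz]
  have hz1 : (z : G) ≠ 1 := fun e => by rw [e, orderOf_one] at hz'; exact hr.one_lt.ne hz'
  obtain ⟨e, he0, her, hcN⟩ := exists_card_eq_mul hr hz' D.N fun g hg => D.conj_mem_zpowers hg z.2
  rw [D.cent_B z.2 hz1, inf_of_le_right le_normalizer, D.card_B] at hcN
  have hn : Nat.card (Sylow r G) ≡ 1 [MOD r] := card_sylow_modEq_one r G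
  rw [P.card_eq_index_normalizer, show normalizer (P : Set G) = normalizer (zpowers y : Set G) by rw [← hP]; rfl,
    D.normalizer_eq hy hy1] at hn
  have h1 : D.N.index * e = 2 * ((D.a + D.b) * D.a) := by
    refine Nat.eq_of_mul_eq_mul_right (show 0 < D.b by have := D.hb3; omega) ?_
    rw [mul_assoc, ← hcN, Subgroup.index_mul_card, D.hcard]; ring
  have h2 : e ≡ 2 [MOD r] := by
    have h3 := ((hn.mul_right e).symm.trans (h1 ▸ Nat.ModEq.refl _)).trans ((D.qa_mod hrb).mul_left 2)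
    simpa using h3
  have hr2 : 2 < r := by
    rcases hr.eq_two_or_odd' with h | h
    · exfalso; subst h; exact Nat.not_even_iff_odd.mpr D.hb (even_iff_two_dvd.mpr hrb)
    · have := hr.two_le; obtain ⟨k, hk⟩ := h; omega
  rw [hcN, h2.eq_of_lt_of_lt her hr2]

/-- There is an involution inverting `B`. -/
theorem exists_w : ∃ w ∈ D.N, w ∉ D.B ∧ w * w = 1 ∧ ∀ y ∈ D.B, w * y * w⁻¹ = y⁻¹ := by
  haveI : Fact (Nat.Prime 2) := ⟨Nat.prime_two⟩
  obtain ⟨w, hw⟩ := exists_prime_orderOf_dvd_card' (G := D.N) 2 (by rw [D.card_N]; exact dvd_mul_right _ _)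
  rw [← Subgroup.orderOf_coe] at hw
  have hwB : (w : G) ∉ D.B := fun h => by
    have h1 := D.ord_of_mem_B h
    rw [hw] at h1
    exact Nat.not_even_iff_odd.mpr D.hb (even_iff_two_dvd.mpr h1)
  have hww : (w : G) * w = 1 := CfsgLib.Involutions.mul_self_eq_one_of_orderOf hw
  refine ⟨w, w.2, hwB, hww, fun y hy => ?_⟩
  have hwy : (w : G) * y * (w : G)⁻¹ ∈ D.B := (mem_normalizer_iff.mp w.2 y).mp hy
  set m := (w : G) * y * (w : G)⁻¹ * y with hm
  have hmB : m ∈ D.B := mul_mem hwy hy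
  have hcomm : y * ((w : G) * y * (w : G)⁻¹) = (w : G) * y * (w : G)⁻¹ * y := by
    have : IsMulCommutative D.B := inferInstance
    exact congrArg Subtype.val (IsMulCommutative.is_comm.comm (⟨_, hy⟩ : D.B) ⟨_, hwy⟩)
  have hfix : (w : G) * m * (w : G)⁻¹ = m := by
    calc (w : G) * m * (w : G)⁻¹ = ((w : G) * w) * y * ((w : G) * w)⁻¹ * ((w : G) * y * (w : G)⁻¹) := by
          rw [hm]; group
      _ = m := by rw [hww]; simpa [hm] using hcomm
  by_contra hne
  have hm1 : m ≠ 1 := fun e => hne (eq_inv_of_mul_eq_one_left e)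
  refine hwB ?_
  rw [← D.cent_B hmB hm1, mem_centralizer_singleton_iff]
  exact mul_inv_eq_iff_eq_mul.mp hfix

omit [Finite G] in
theorem half {y : G} (hy : y ∈ D.B) (hy' : y ^ D.b = 1) : (y ^ ((D.b + 1) / 2)) ^ 2 = y := by
  rw [← pow_mul, Nat.div_mul_cancel (even_iff_two_dvd.mp D.hb.add_one), pow_succ, hy', one_mul]

/-- A non-trivial normal abelian subgroup meets `B`. -/
theorem no_abelian_normal (Z : Subgroup G) [Z.Normal] (hZ1 : Z ≠ ⊥)
    (hc : ∀ x ∈ Z, ∀ y ∈ Z, x * y = y * x) : Z ⊓ D.B ≠ ⊥ := by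
  intro hZB
  obtain ⟨z, hzZ, hz1⟩ := Z.bot_or_exists_ne_one.resolve_left hZ1
  have hle : Z ≤ centralizer ({z} : Set G) := fun x hx => mem_centralizer_singleton_iff.mpr (hc x hx z hzZ)
  have hn1 : 1 < Nat.card Z := (Subgroup.one_lt_card_iff_ne_bot Z).mpr hZ1
  have hnorm : ∀ E : Subgroup G, E ≤ normalizer (Z : Set G) := fun E => by rw [normalizer_eq_top]; exact le_top
  have hBZ : D.b ∣ Nat.card Z - 1 := by
    rw [← D.card_B]
    refine card_dvd_card_sub_one _ _ (hnorm _) fun e he he1 x hx hex => ?_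
    have h1 : x ∈ Z ⊓ D.B := ⟨hx, by rw [← D.cent_B he he1]; exact mem_centralizer_singleton_iff.mpr hex.eq.symm⟩
    rwa [hZB, mem_bot] at h1
  rcases D.hord z with hz | hz | hz
  · -- class `a`
    have hdvd : Nat.card Z ∣ 2 * D.a := (Subgroup.card_dvd_of_le hle).trans (D.cent_a hz hz1)
    haveI := Fact.mk D.hp
    obtain ⟨u, hu⟩ := exists_prime_orderOf_dvd_card' (G := G) D.p
      (D.hcard ▸ ((D.p_dvd_q.mul_left 2).mul_right _).mul_right _)
    have hp1 : D.p ∣ Nat.card Z - 1 := by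
      rw [← hu, ← Nat.card_zpowers]
      refine card_dvd_card_sub_one _ _ (hnorm _) fun e he he1 x hx hex => ?_
      by_contra hx1
      have h1 : orderOf x ∣ D.a := D.isoA.of_commute hz hz1 (hc x hx z hzZ)
      have h2 : orderOf e ∣ D.a := D.isoA.of_commute h1 hx1 hex
      exact he1 (orderOf_eq_one_iff.mp
        (Nat.eq_one_of_dvd_coprimes D.cop_ap h2 (hu ▸ orderOf_dvd_of_mem_zpowers he)))
    obtain ⟨k, hk⟩ := hdvd
    obtain ⟨j, hj⟩ := hBZ
    have hk0 : k ≠ 0 := fun h => by rw [h, mul_zero] at hk; have := D.ha2; omega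
    have hj0 : j ≠ 0 := fun h => by rw [h, mul_zero] at hj; omega
    have hjb : D.b ≤ D.b * j := Nat.le_mul_of_pos_right _ (Nat.pos_of_ne_zero hj0)
    have hb3 := D.hb3
    obtain ⟨i, hi⟩ := D.hb
    rcases D.hab with hab | hab
    · -- `b = a + 1`
      have hk1 : k = 1 := by
        by_contra hne
        have : Nat.card Z * 2 ≤ Nat.card Z * k := Nat.mul_le_mul_left _ (by omega)
        omega
      subst hk1
      have hj1 : j = 1 := by
        by_contra hne
        have : D.b * 2 ≤ D.b * j := Nat.mul_le_mul_left _ (by omega)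
        omega
      subst hj1
      have h3 : D.b = 3 := by omega
      have hp3 : D.p ∣ 3 := by rwa [hj, mul_one, h3] at hp1
      have hp5 : D.p ∣ 5 := by
        have := D.p_dvd_q; rwa [show D.a + D.b = 5 by omega] at this
      exact D.hp.one_lt.ne' (Nat.eq_one_of_dvd_coprimes (by norm_num : Nat.Coprime 3 5) hp3 hp5)
    · -- `a = b + 1`
      have hj1 : j = 1 := by
        by_contra hne
        have h4 : D.b * 2 ≤ D.b * j := Nat.mul_le_mul_left _ (by omega)
        have hk1 : k = 1 := by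
          by_contra hne
          have : Nat.card Z * 2 ≤ Nat.card Z * k := Nat.mul_le_mul_left _ (by omega)
          omega
        subst hk1
        have hj2 : j < 3 := by
          by_contra h5
          have : D.b * 3 ≤ D.b * j := Nat.mul_le_mul_left _ (by omega)
          omega
        interval_cases j <;> omega
      subst hj1
      exact D.hp.one_lt.ne' (Nat.eq_one_of_dvd_coprimes D.cop_bp (by rwa [hj, mul_one] at hp1) dvd_rfl)
  · -- class `b`
    obtain ⟨r, hr, hrz⟩ := Nat.exists_prime_and_dvd (n := orderOf z) (fun h => hz1 (orderOf_eq_one_iff.mp h))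
    haveI := Fact.mk hr
    obtain ⟨y, hy, hy1, P, hP⟩ := D.exists_sylow_B (hrz.trans hz)
    obtain ⟨v, hv⟩ := exists_prime_orderOf_dvd_card' (G := Z) r
      (hrz.trans (Subgroup.orderOf_dvd_natCard _ hzZ))
    obtain ⟨Q, hQ⟩ := (IsPGroup.of_card (n := 1)
      (by rw [Nat.card_zpowers, Subgroup.orderOf_coe, hv, pow_one]) : IsPGroup r (zpowers (v : G))).exists_le_sylow
    obtain ⟨g, hg⟩ := MulAction.exists_smul_eq G Q P
    have h1 : g * (v : G) * g⁻¹ ∈ (P : Subgroup G) := by
      rw [← hg]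
      exact ⟨(v : G), hQ (mem_zpowers _), rfl⟩
    rw [hP] at h1
    have h2 : g * (v : G) * g⁻¹ ∈ Z ⊓ D.B := ⟨Subgroup.Normal.conj_mem inferInstance _ v.2 g, zpowers_le.mpr hy h1⟩
    rw [hZB, mem_bot, conj_eq_one_iff, OneMemClass.coe_eq_one] at h2
    rw [h2, orderOf_one] at hv
    exact hr.one_lt.ne hv
  · -- class `p`
    obtain ⟨x, hx⟩ := D.exA
    have hA : D.a ∣ Nat.card Z - 1 := by
      rw [← hx, ← Nat.card_zpowers]
      refine card_dvd_card_sub_one _ _ (hnorm _) fun e he he1 x' hx' hex => ?_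
      by_contra hx1
      have h1 : orderOf x' ∣ D.p := D.isoP.of_commute hz hz1 (hc x' hx' z hzZ)
      have h2 : orderOf e ∣ D.p := D.isoP.of_commute h1 hx1 hex
      exact he1 (orderOf_eq_one_iff.mp
        (Nat.eq_one_of_dvd_coprimes D.cop_ap (hx ▸ orderOf_dvd_of_mem_zpowers he) h2))
    have hle' : Nat.card Z ≤ D.a + D.b := Nat.le_of_dvd (by have := D.ha2; omega)
      ((Subgroup.card_dvd_of_le hle).trans (D.cent_p hz hz1))
    have h1 : D.a * D.b ≤ Nat.card Z - 1 := Nat.le_of_dvd (by omega) (D.cop_ab.mul_dvd_of_dvd_of_dvd hA hBZ)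
    have ha2 := D.ha2
    have hb3 := D.hb3
    have : D.a + D.b ≤ D.a * D.b := by nlinarith
    omega

theorem eq_top_of_mem {T : Subgroup G} [T.Normal] {w : G} (hwN : w ∈ D.N) (hwB : w ∉ D.B)
    (hinv : ∀ y ∈ D.B, w * y * w⁻¹ = y⁻¹) (hw : w ∈ T) : T = ⊤ := by
  have hBT : D.B ≤ T := fun y hy => by
    have hy' : y ^ D.b = 1 := orderOf_dvd_iff_pow_eq_one.mp (D.ord_of_mem_B hy)
    have h1 : y ^ 2 ∈ T := by
      have h2 : w * y * w⁻¹ * y⁻¹ ∈ T := by
        rw [show w * y * w⁻¹ * y⁻¹ = w * (y * w⁻¹ * y⁻¹) by group]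
        exact mul_mem hw (Subgroup.Normal.conj_mem inferInstance _ (inv_mem hw) y)
      rw [hinv y hy, ← mul_inv_rev, ← pow_two] at h2
      exact inv_mem_iff.mp h2
    rw [← D.half hy hy', ← pow_mul, mul_comm, pow_mul]
    exact pow_mem h1 _
  have hNT : D.N ≤ T := by
    have h1 : D.B ⊔ zpowers w ≤ D.N := sup_le le_normalizer (zpowers_le.mpr hwN)
    have h2 : D.B ⊔ zpowers w = D.N := by
      refine Subgroup.eq_of_le_of_card_ge h1 ?_
      obtain ⟨k, hk⟩ := Subgroup.card_dvd_of_le (le_sup_left : D.B ≤ D.B ⊔ zpowers w)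
      have hne : k ≠ 1 := fun h => hwB (by
        have e : D.B = D.B ⊔ zpowers w := Subgroup.eq_of_le_of_card_ge le_sup_left (by rw [hk, h, mul_one])
        rw [e]; exact mem_sup_right (mem_zpowers w))
      have hk0 : k ≠ 0 := fun h => by rw [h, mul_zero] at hk; exact Nat.card_pos.ne' hk
      rw [hk, D.card_B, D.card_N, mul_comm]
      exact Nat.mul_le_mul_left _ (by omega)
    rw [← h2]
    exact sup_le hBT (zpowers_le.mpr hw)
  obtain ⟨r, hr, hrb⟩ := Nat.exists_prime_and_dvd (n := D.b) (by have := D.hb3; omega)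
  haveI := Fact.mk hr
  obtain ⟨y, hy, hy1, P, hP⟩ := D.exists_sylow_B hrb
  have h := P.normalizer_sup_eq_top' (N := T) (by rw [hP]; exact (zpowers_le.mpr hy).trans hBT)
  rw [show normalizer (P : Set G) = normalizer (zpowers y : Set G) by rw [← hP]; rfl, D.normalizer_eq hy hy1,
    sup_of_le_right hNT] at h
  exact h

theorem eq_bot_of_not_mem {w : G} (hwN : w ∈ D.N) (hwB : w ∉ D.B) (hww : w * w = 1)
    (hinv : ∀ y ∈ D.B, w * y * w⁻¹ = y⁻¹) :
    ∀ (n : ℕ) (T : Subgroup G), Nat.card T = n → T.Normal → w ∉ T → T = ⊥ := by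
  intro n
  induction n using Nat.strong_induction_on with
  | _ n ih =>
    intro T hTn hTnormal hwT
    haveI := hTnormal
    by_contra hT
    -- `T ∩ N(B) ≤ B`
    have hTN : ∀ g ∈ T, g ∈ D.N → g ∈ D.B := by
      intro g hgT hgN
      by_contra hgB
      have hidx : (D.B.subgroupOf D.N).index = 2 := by
        have h1 := (D.B.subgroupOf D.N).index_mul_card
        rw [Nat.card_congr (Subgroup.subgroupOfEquivOfLe (le_normalizer (H := D.B))).toEquiv, D.card_B,
          D.card_N] at h1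
        exact Nat.eq_of_mul_eq_mul_right (by have := D.hb3; omega) h1
      have hy : g * w ∈ D.B :=
        ((Subgroup.mul_mem_iff_of_index_two hidx (a := ⟨g, hgN⟩) (b := ⟨w, hwN⟩))).mpr
          ⟨fun h => absurd h hgB, fun h => absurd h hwB⟩
      have hy' : (g * w) ^ D.b = 1 := orderOf_dvd_iff_pow_eq_one.mp (D.ord_of_mem_B hy)
      set u := (g * w) ^ ((D.b + 1) / 2) with hu
      have huB : u ∈ D.B := pow_mem hy _
      have huu : u ^ 2 = g * w := D.half hy hy'
      have hwu : w * u⁻¹ = u * w := by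
        have := hinv u⁻¹ (inv_mem huB)
        rw [inv_inv, mul_inv_eq_iff_eq_mul] at this
        exact this
      have hgu : u⁻¹ * g * u = w⁻¹ := by
        have e : g = u * u * w⁻¹ := by rw [← pow_two, huu, mul_inv_cancel_right]
        have h2 : u * w⁻¹ * u = w⁻¹ := by
          have h3 : w * u = u⁻¹ * w := mul_inv_eq_iff_eq_mul.mp (hinv u huB)
          rw [inv_eq_of_mul_eq_one_right hww, mul_assoc, h3, mul_inv_cancel_left]
        rw [e]
        calc u⁻¹ * (u * u * w⁻¹) * u = u * w⁻¹ * u := by group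
          _ = w⁻¹ := h2
      refine hwT (inv_mem_iff.mp (hgu ▸ ?_))
      have := Subgroup.Normal.conj_mem hTnormal g hgT u⁻¹
      rwa [inv_inv] at this
    by_cases hTB : T ⊓ D.B = ⊥
    · -- `B` acts without fixed points on `T`
      have hnil : Group.IsNilpotent T := by
        refine CfsgLib.FrobAction.isNilpotent_of_fpf_operators T D.B ?_ (by rw [normalizer_eq_top]; exact le_top) ?_
        · intro h
          have := D.card_B
          rw [h, card_bot] at this
          have := D.hb3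
          omega
        · intro e he he1 x hx hex
          have h1 : x ∈ T ⊓ D.B := ⟨hx, by rw [← D.cent_B he he1]; exact mem_centralizer_singleton_iff.mpr hex.symm⟩
          rwa [hTB, mem_bot] at h1
      haveI : Nontrivial T := (Subgroup.nontrivial_iff_ne_bot _).mpr hT
      haveI : ((center T).map T.subtype).Normal := inferInstance
      refine D.no_abelian_normal ((center T).map T.subtype) ?_ ?_ (le_bot_iff.mp (hTB ▸ inf_le_inf_right _ (map_subtype_le _)))
      · rw [Ne, Subgroup.map_eq_bot_iff_of_injective _ T.subtype_injective]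
        exact Group.IsNilpotent.center_ne_bot T
      · rintro _ ⟨x, hx, rfl⟩ _ ⟨y, -, rfl⟩
        exact congrArg Subtype.val (Subgroup.mem_center_iff.mp hx y).symm
    · obtain ⟨x, hx, hx1⟩ := (T ⊓ D.B).bot_or_exists_ne_one.resolve_left hTB
      obtain ⟨r, hr, hrx⟩ := Nat.exists_prime_and_dvd (n := orderOf x) (fun h => hx1 (orderOf_eq_one_iff.mp h))
      haveI := Fact.mk hr
      obtain ⟨z, hz⟩ := exists_prime_orderOf_dvd_card' (G := (T ⊓ D.B : Subgroup G)) r
        (hrx.trans (Subgroup.orderOf_dvd_natCard _ hx))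
      rw [← Subgroup.orderOf_coe] at hz
      obtain ⟨hzT, hzB⟩ := z.2
      have hz1 : (z : G) ≠ 1 := fun e => by rw [e, orderOf_one] at hz; exact hr.one_lt.ne hz
      have hzp : IsPGroup r (zpowers (⟨z, hzT⟩ : T)) :=
        IsPGroup.of_card (n := 1) (by rw [Nat.card_zpowers, Subgroup.orderOf_mk, hz, pow_one])
      obtain ⟨P, hP⟩ := hzp.exists_le_sylow
      have hzP : (⟨z, hzT⟩ : T) ∈ (P : Subgroup T) := hP (mem_zpowers _)
      have hPB : ∀ g ∈ (P : Subgroup T), (g : G) ∈ D.B := by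
        haveI : Nontrivial (P : Subgroup T) := ⟨⟨⟨_, hzP⟩, 1, fun h => hz1 (congrArg (fun u : (P : Subgroup T) => ((u : T) : G)) h)⟩⟩
        haveI := P.2.center_nontrivial
        obtain ⟨c, hc⟩ := exists_ne (1 : center (P : Subgroup T))
        have hcz : ((c : (P : Subgroup T)) : T).1 ∈ D.B := by
          rw [← D.cent_B hzB hz1, mem_centralizer_singleton_iff]
          exact congrArg (fun u : (P : Subgroup T) => ((u : T) : G)) (Subgroup.mem_center_iff.mp c.2 ⟨_, hzP⟩).symm
        intro g hg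
        rw [← D.cent_B hcz (fun h => hc (Subtype.ext (Subtype.ext (Subtype.ext h)))), mem_centralizer_singleton_iff]
        exact congrArg (fun u : (P : Subgroup T) => ((u : T) : G)) (Subgroup.mem_center_iff.mp c.2 ⟨g, hg⟩)
      have hNC : normalizer ((P : Subgroup T) : Set T) ≤ centralizer ((P : Subgroup T) : Set T) := by
        intro g hg
        have hgB : (g : G) ∈ D.B := hTN g g.2 (D.mem_N_of_conj_mem hzB hz1
          (hPB _ ((mem_normalizer_iff.mp hg ⟨z, hzT⟩).mp hzP)))
        refine mem_centralizer_iff.mpr fun h hh => Subtype.ext ?_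
        have : IsMulCommutative D.B := inferInstance
        exact congrArg (fun u : D.B => (u : G)) (IsMulCommutative.is_comm.comm (⟨_, hPB h hh⟩ : D.B) ⟨_, hgB⟩)
      set K := (MonoidHom.transferSylow P hNC).ker with hKdef
      have hK := MonoidHom.ker_transferSylow_isComplement' P hNC
      have hKco : (Nat.card K).Coprime r := by
        rw [hKdef, ← hK.index_eq_card]
        exact (hr.coprime_iff_not_dvd.mpr P.not_dvd_index).symm
      have hmemK : ∀ k : T, k ∈ K ↔ (orderOf k).Coprime r := by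
        refine fun k => ⟨fun h => hKco.coprime_dvd_left (Subgroup.orderOf_dvd_natCard _ h), fun h => ?_⟩
        rw [hKdef, MonoidHom.mem_ker]
        obtain ⟨i, hi⟩ := IsPGroup.iff_orderOf.mp P.2 (MonoidHom.transferSylow P hNC k)
        refine orderOf_eq_one_iff.mp (Nat.eq_one_of_dvd_coprimes (h.pow_right i) (orderOf_map_dvd _ k) ?_)
        rw [hi]
      haveI hKn : (K.map T.subtype).Normal := by
        refine ⟨?_⟩
        rintro _ ⟨k, hk, rfl⟩ g
        have hm : g * (k : G) * g⁻¹ ∈ T := hTnormal.conj_mem _ k.2 g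
        refine ⟨⟨_, hm⟩, (hmemK _).mpr ?_, rfl⟩
        rw [Subgroup.orderOf_mk, CfsgLib.Involutions.orderOf_conj, Subgroup.orderOf_coe]
        exact (hmemK k).mp hk
      have hKT : K.map T.subtype ≤ T := map_subtype_le _
      have hlt : Nat.card (K.map T.subtype) < n := by
        rw [← hTn]
        refine lt_of_le_of_ne (Subgroup.card_le_of_le hKT) fun h => ?_
        have e := Subgroup.eq_of_le_of_card_ge hKT h.ge
        obtain ⟨k, hk, hk'⟩ : (z : G) ∈ K.map T.subtype := e.symm ▸ hzT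
        have h2 := (hmemK k).mp hk
        rw [← Subgroup.orderOf_coe, show (k : G) = z from hk', hz] at h2
        exact hr.one_lt.ne' ((Nat.coprime_self r).mp h2)
      have hK0 := ih _ hlt _ rfl hKn fun h => hwT (hKT h)
      rw [Subgroup.map_eq_bot_iff_of_injective _ T.subtype_injective] at hK0
      rw [← hKdef, hK0, Subgroup.isComplement'_bot_left] at hK
      have hTB' : T ≤ D.B := fun g hg => hPB ⟨g, hg⟩ (hK ▸ mem_top _)
      have hall : (⊤ : Subgroup G) ≤ D.N := fun g _ =>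
        D.mem_N_of_conj_mem hzB hz1 (hTB' (hTnormal.conj_mem _ hzT g))
      have h1 := Subgroup.card_le_of_le hall
      rw [Subgroup.card_top, D.hcard, D.card_N] at h1
      have : 2 * 2 * D.b ≤ 2 * (D.a + D.b) * D.a * D.b :=
        Nat.mul_le_mul_right _ ((Nat.mul_le_mul_left _ D.ha2).trans' (by
          have := D.hb3
          nlinarith [D.ha2]))
      have := D.hb3
      omega

theorem isSimpleGroup : IsSimpleGroup G := by
  obtain ⟨w, hwN, hwB, hww, hinv⟩ := D.exists_w
  haveI : Nontrivial G := nontrivial_of_ne w 1 fun h => hwB (h ▸ one_mem _)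
  refine ⟨fun T hT => ?_⟩
  by_cases hw : w ∈ T
  · exact Or.inr (D.eq_top_of_mem hwN hwB hinv hw)
  · exact Or.inl (D.eq_bot_of_not_mem hwN hwB hww hinv _ T rfl hT hw)

end Dat

end CfsgLib.SpecOrderPSL2
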